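import Groth.Agent.LogModGeo.Glue
import Groth.Agent.QCoh.Stalk
import Groth.Agent.H23.PullPush

/-!
# Morphisms into a module with a perfect trace along an affine morphism
-/

set_option autoImplicit false
set_option linter.style.haveILetI false
set_option linter.unusedSectionVars false
set_option backward.isDefEq.respectTransparency false
set_option backward.isDefEq.respectTransparency.types false

universe u

open CategoryTheory AlgebraicGeometry Opposite TopologicalSpace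
open Groth.Agent.LogModGeo (rs rf rs_rs rf_rf rs_refl rf_refl rs_smul app_rs eq_of_locally exists_glue
  exists_affine_nhd exists_hom_of_rel)

noncomputable section

namespace Groth.Agent.OmegaTop

variable {X P : Scheme.{u}} (π : X ⟶ P) [IsAffineHom π] {L : X.Modules} {ω : P.Modules}
  (T : (Scheme.Modules.pushforward π).obj L ⟶ ω)

/-- `T` is a perfect pairing on the affine open `V`. -/
def Perfect (V : P.Opens) : Prop :=
  IsAffineOpen V ∧ ∀ g : Γ(X, π ⁻¹ᵁ V) →+ Γ(ω, V), (∀ a x, g (π.app V a * x) = a • g x) →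
    ∃! η : Γ(L, π ⁻¹ᵁ V), ∀ x : Γ(X, π ⁻¹ᵁ V), T.app V (x • η) = g x

/-- Inverting a section on a basic open. -/
theorem exists_unit_smul {F : X.Modules} (hF : Coh.IsQCoh F) {U : X.Opens} (hU : IsAffineOpen U)
    (f : Γ(X, U)) (x : Γ(F, X.basicOpen f)) :
    ∃ (z : Γ(F, U)) (u : Γ(X, X.basicOpen f)), x = u • rs F (X.basicOpen_le f) z := by
  letI := QCoh.basicModule f F
  haveI := QCoh.isLocalizedModule_basicRes f hF hU
  haveI := hU.isLocalization_basicOpen f
  obtain ⟨⟨z, t⟩, hzt⟩ := IsLocalizedModule.surj (Submonoid.powers f) (QCoh.basicRes f F) x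
  obtain ⟨w, hw⟩ := IsLocalization.map_units Γ(X, X.basicOpen f) t
  refine ⟨z, (↑w⁻¹ : Γ(X, X.basicOpen f)), ?_⟩
  have h1 : (w : Γ(X, X.basicOpen f)) • x = rs F (X.basicOpen_le f) z := by rw [hw]; exact hzt
  rw [← h1, smul_smul, Units.inv_mul, one_smul]

/-- Inverting a function on a basic open. -/
theorem exists_pow_mul {U : X.Opens} (hU : IsAffineOpen U) (f : Γ(X, U)) (a : Γ(X, X.basicOpen f)) :
    ∃ (m : ℕ) (b : Γ(X, U)), rf (X.basicOpen_le f) (f ^ m) * a = rf (X.basicOpen_le f) b := by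
  haveI := hU.isLocalization_basicOpen f
  obtain ⟨⟨b, ⟨_, m, rfl⟩⟩, h⟩ := IsLocalization.surj (Submonoid.powers f) a
  exact ⟨m, b, (mul_comm _ _).trans h⟩

variable {F : X.Modules} (ψ : (Scheme.Modules.pushforward π).obj F ⟶ ω)

theorem exists_eta {V : P.Opens} (hV : Perfect π T V) (z : Γ(F, π ⁻¹ᵁ V)) :
    ∃! η : Γ(L, π ⁻¹ᵁ V), ∀ x : Γ(X, π ⁻¹ᵁ V), T.app V (x • η) = ψ.app V (x • z) := by
  refine hV.2 (AddMonoidHom.mk' (fun x : Γ(X, π ⁻¹ᵁ V) => ψ.app V (x • z)) fun x y => ?_) fun a x => ?_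
  · show ψ.app V ((x + y) • z) = _
    rw [add_smul]
    exact map_add (ψ.app V).hom _ _
  · show ψ.app V ((π.app V a * x) • z) = a • ψ.app V (x • z)
    rw [mul_smul]
    exact Scheme.Modules.Hom.app_smul ψ a (x • z)

/-- **A perfect trace identifies morphisms into `L` with morphisms from the direct image into `ω`.** -/
theorem bijective_pushComp (hF : Coh.IsQCoh F)
    (hcov : ∀ (y : P) (U : P.Opens), y ∈ U → ∃ V, y ∈ V ∧ V ≤ U ∧ Perfect π T V) :
    Function.Bijective fun φ : F ⟶ L => (Scheme.Modules.pushforward π).map φ ≫ T := by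
  classical
  have hTa : ∀ (φ : F ⟶ L) (V : P.Opens) (z : Γ(F, π ⁻¹ᵁ V)),
      ((Scheme.Modules.pushforward π).map φ ≫ T).app V z = T.app V (φ.app (π ⁻¹ᵁ V) z) := fun _ _ _ => rfl
  -- locally every section comes from a perfect chart
  have hloc : ∀ (W : X.Opens) (p : X), p ∈ W → ∀ U : P.Opens, π p ∈ U →
      ∃ (V : P.Opens) (_ : Perfect π T V) (f : Γ(X, π ⁻¹ᵁ V)),
        V ≤ U ∧ p ∈ X.basicOpen f ∧ X.basicOpen f ≤ W := by
    intro W p hp U hU
    obtain ⟨V, hpV, hVU, hV⟩ := hcov (π p) U hU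
    obtain ⟨f, hf, hpf⟩ := (hV.1.preimage π).exists_basicOpen_le (V := W) ⟨p, hp⟩ hpV
    exact ⟨V, hV, f, hVU, hpf, hf⟩
  refine ⟨fun φ₁ φ₂ heq => ?_, fun ψ => ?_⟩
  · dsimp only at heq
    refine Scheme.Modules.hom_ext _ _ fun W => ?_
    ext x
    refine eq_of_locally L _ _ fun p hp => ?_
    obtain ⟨V, hV, f, -, hpf, hfW⟩ := hloc W p hp ⊤ trivial
    obtain ⟨z, u, hzu⟩ := exists_unit_smul hF (hV.1.preimage π) f (rs F hfW x)
    refine ⟨_, hfW, hpf, ?_⟩
    have hη : φ₁.app (π ⁻¹ᵁ V) z = φ₂.app (π ⁻¹ᵁ V) z := by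
      refine (exists_eta π T ((Scheme.Modules.pushforward π).map φ₁ ≫ T) hV z).unique (fun x => ?_) fun x => ?_
      · rw [hTa, Scheme.Modules.Hom.app_smul]
      · rw [heq, hTa, Scheme.Modules.Hom.app_smul]
    rw [← app_rs, ← app_rs, hzu, Scheme.Modules.Hom.app_smul, Scheme.Modules.Hom.app_smul, app_rs, app_rs, hη]
  · choose η hη hηu using fun (V : P.Opens) (hV : Perfect π T V) (z : Γ(F, π ⁻¹ᵁ V)) => exists_eta π T ψ hV z
    have ηadd : ∀ V hV z z', η V hV (z + z') = η V hV z + η V hV z' := fun V hV z z' =>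
      (hηu V hV _ _ fun x => by
        show T.app V (x • (η V hV z + η V hV z')) = ψ.app V (x • (z + z'))
        rw [smul_add, smul_add]
        exact ((map_add (T.app V).hom _ _).trans (congrArg₂ (· + ·) (hη V hV z x) (hη V hV z' x))).trans
          (map_add (ψ.app V).hom _ _).symm).symm
    have ηsmul : ∀ V hV (b : Γ(X, π ⁻¹ᵁ V)) z, η V hV (b • z) = b • η V hV z := fun V hV b z =>
      (hηu V hV _ _ fun x => by
        show T.app V (x • b • η V hV z) = ψ.app V (x • b • z)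
        rw [smul_smul, smul_smul]
        exact hη V hV z (x * b)).symm
    have ηres : ∀ V V' (hV : Perfect π T V) (hV' : Perfect π T V') (h : V' ≤ V) z,
        η V' hV' (rs F (fun x hx => h hx : π ⁻¹ᵁ V' ≤ π ⁻¹ᵁ V) z) =
          rs L (fun x hx => h hx : π ⁻¹ᵁ V' ≤ π ⁻¹ᵁ V) (η V hV z) := by
      intro V V' hV hV' h z
      refine (hηu V' hV' _ _ fun x' => ?_).symm
      refine eq_of_locally ω _ _ fun p hp => ?_
      obtain ⟨a, ha, hpa⟩ := hV.1.exists_basicOpen_le (V := V') ⟨p, hp⟩ (h hp)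
      refine ⟨P.basicOpen a, ha, hpa, ?_⟩
      have hle : π ⁻¹ᵁ P.basicOpen a ≤ X.basicOpen (π.app V a) := (Scheme.preimage_basicOpen π a).le
      obtain ⟨m, b, hb⟩ := exists_pow_mul (hV.1.preimage π) (π.app V a)
        (rf ((Scheme.preimage_basicOpen π a).ge.trans (fun x hx => ha hx) :
          X.basicOpen (π.app V a) ≤ π ⁻¹ᵁ V') x')
      have hb' : rf (fun x hx => P.basicOpen_le a hx : π ⁻¹ᵁ P.basicOpen a ≤ π ⁻¹ᵁ V) (π.app V (a ^ m)) *
          rf (fun x hx => ha hx : π ⁻¹ᵁ P.basicOpen a ≤ π ⁻¹ᵁ V') x' =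
          rf (fun x hx => P.basicOpen_le a hx : π ⁻¹ᵁ P.basicOpen a ≤ π ⁻¹ᵁ V) b := by
        have h2 := congrArg (rf hle) hb
        rw [map_mul, rf_rf, rf_rf, rf_rf, ← map_pow (π.app V).hom] at h2
        exact h2
      have hu : IsUnit (rf (P.basicOpen_le a) (a ^ m)) := by
        rw [map_pow]
        exact (P.toRingedSpace.isUnit_res_basicOpen a).pow m
      have hnat : rf (fun x hx => P.basicOpen_le a hx : π ⁻¹ᵁ P.basicOpen a ≤ π ⁻¹ᵁ V) (π.app V (a ^ m)) =
          π.app (P.basicOpen a) (rf (P.basicOpen_le a) (a ^ m)) :=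
        (ConcreteCategory.congr_hom (π.naturality (homOfLE (P.basicOpen_le a)).op) (a ^ m)).symm
      refine hu.smul_left_cancel.1 ?_
      -- both sides, multiplied by the unit, come from the chart
      have key : ∀ (M : X.Modules) (Φ : (Scheme.Modules.pushforward π).obj M ⟶ ω) (v : Γ(M, π ⁻¹ᵁ V)),
          rf (P.basicOpen_le a) (a ^ m) • rs ω ha (Φ.app V' (x' •
            rs M (fun x hx => h hx : π ⁻¹ᵁ V' ≤ π ⁻¹ᵁ V) v)) =
          rs ω (P.basicOpen_le a) (Φ.app V (b • v)) := by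
        intro M Φ v
        rw [← app_rs, ← app_rs]
        refine (Scheme.Modules.Hom.app_smul Φ _ _).symm.trans (congrArg (Φ.app (P.basicOpen a)) ?_)
        show π.app (P.basicOpen a) (rf (P.basicOpen_le a) (a ^ m)) •
            rs M (fun x hx => ha hx : π ⁻¹ᵁ P.basicOpen a ≤ π ⁻¹ᵁ V')
              (x' • rs M (fun x hx => h hx : π ⁻¹ᵁ V' ≤ π ⁻¹ᵁ V) v) =
          rs M (fun x hx => P.basicOpen_le a hx : π ⁻¹ᵁ P.basicOpen a ≤ π ⁻¹ᵁ V) (b • v)
        rw [rs_smul, rs_smul, rs_rs, smul_smul, ← hnat, hb']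
      rw [key L T (η V hV z), key F ψ z, hη V hV z b]
    -- consistency on small opens
    have cons : ∀ (V V' : P.Opens) (hV : Perfect π T V) (hV' : Perfect π T V') (W : X.Opens)
        (h : W ≤ π ⁻¹ᵁ V) (h' : W ≤ π ⁻¹ᵁ V') (z : Γ(F, π ⁻¹ᵁ V)) (z' : Γ(F, π ⁻¹ᵁ V')) (a a' : Γ(X, W)),
        a • rs F h z = a' • rs F h' z' →
          a • rs L h (η V hV z) = a' • rs L h' (η V' hV' z') := by
      intro V V' hV hV' W h h' z z' a a' haa
      refine eq_of_locally L _ _ fun p hp => ?_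
      obtain ⟨V'', hV'', g, hle, hpg, hgW⟩ := hloc W p hp (V ⊓ V') ⟨h hp, h' hp⟩
      refine ⟨_, hgW, hpg, ?_⟩
      let U := π ⁻¹ᵁ V''
      let hU₁ : U ≤ π ⁻¹ᵁ V := fun x hx => (hle hx).1
      let hU₂ : U ≤ π ⁻¹ᵁ V' := fun x hx => (hle hx).2
      let hg := X.basicOpen_le g
      obtain ⟨m₁, b₁, hb₁⟩ := exists_pow_mul (hV''.1.preimage π) g (rf hgW a)
      obtain ⟨m₂, b₂, hb₂⟩ := exists_pow_mul (hV''.1.preimage π) g (rf hgW a')
      letI := QCoh.basicModule g F
      haveI := QCoh.isLocalizedModule_basicRes g hF (hV''.1.preimage π)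
      let u₁ := rf hg (g ^ m₁)
      let u₂ := rf hg (g ^ m₂)
      have e1 : rs F hg ((g ^ m₂ * b₁) • rs F hU₁ z) = rs F hg ((g ^ m₁ * b₂) • rs F hU₂ z') := by
        rw [rs_smul, rs_smul, rs_rs, rs_rs, map_mul, map_mul, ← hb₁, ← hb₂, ← mul_assoc, ← mul_assoc,
          mul_comm (rf hg (g ^ m₁)) (rf hg (g ^ m₂))]
        have := congrArg (rs F hgW) haa
        rw [rs_smul, rs_smul, rs_rs, rs_rs] at this
        simp only [mul_smul, this]
      obtain ⟨⟨_, N, rfl⟩, hN⟩ := IsLocalizedModule.exists_of_eq (S := Submonoid.powers g)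
        (f := QCoh.basicRes g F) e1
      have e2 := congrArg (η V'' hV'') hN
      change η V'' hV'' ((g ^ N) • ((g ^ m₂ * b₁) • rs F hU₁ z)) =
        η V'' hV'' ((g ^ N) • ((g ^ m₁ * b₂) • rs F hU₂ z')) at e2
      rw [ηsmul, ηsmul, ηsmul, ηsmul, ηres V V'' hV hV'' (fun x hx => (hle hx).1),
        ηres V' V'' hV' hV'' (fun x hx => (hle hx).2)] at e2
      have e3 := congrArg (rs L hg) e2
      rw [rs_smul, rs_smul, rs_smul, rs_smul, rs_rs, rs_rs, map_mul, map_mul, ← hb₁, ← hb₂,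
        ← mul_assoc, ← mul_assoc, mul_comm (rf hg (g ^ m₁)) (rf hg (g ^ m₂))] at e3
      have hu : ∀ m : ℕ, IsUnit (rf hg (g ^ m)) := fun m => by
        rw [map_pow]; exact (X.toRingedSpace.isUnit_res_basicOpen g).pow m
      simp only [mul_smul] at e3
      rw [(hu N).smul_left_cancel, (hu m₂).smul_left_cancel, (hu m₁).smul_left_cancel] at e3
      rw [rs_smul, rs_smul, rs_rs, rs_rs]
      exact e3
    obtain ⟨φ, hφ⟩ := exists_hom_of_rel (M := F) (N := L)
      (fun W x y => ∀ (V : P.Opens) (hV : Perfect π T V) (W' : X.Opens) (hW : W' ≤ W) (h : W' ≤ π ⁻¹ᵁ V)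
        (z : Γ(F, π ⁻¹ᵁ V)) (a : Γ(X, W')),
        rs F hW x = a • rs F h z → rs L hW y = a • rs L h (η V hV z))
      (fun {U U'} hU x y hR V hV W' hW h z a e => by
        rw [rs_rs] at e ⊢
        exact hR V hV W' (hW.trans hU) h z a e)
      (fun W x x' y y' hR hR' V hV W' hW h z a e => by
        refine eq_of_locally L _ _ fun p hp => ?_
        obtain ⟨V', hV', f, hle, hpf, hfW⟩ := hloc W' p hp V (h hp)
        refine ⟨_, hfW, hpf, ?_⟩
        obtain ⟨z₁, u₁, e₁⟩ := exists_unit_smul hF (hV'.1.preimage π) f (rs F (hfW.trans hW) x)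
        obtain ⟨z₂, u₂, e₂⟩ := exists_unit_smul hF (hV'.1.preimage π) f (rs F (hfW.trans hW) x')
        have k₁ := hR V' hV' _ (hfW.trans hW) (X.basicOpen_le f) z₁ u₁ e₁
        have k₂ := hR' V' hV' _ (hfW.trans hW) (X.basicOpen_le f) z₂ u₂ e₂
        obtain ⟨m₁, b₁, hb₁⟩ := exists_pow_mul (hV'.1.preimage π) f u₁
        obtain ⟨m₂, b₂, hb₂⟩ := exists_pow_mul (hV'.1.preimage π) f u₂
        have hu : IsUnit (rf (X.basicOpen_le f) (f ^ m₁) * rf (X.basicOpen_le f) (f ^ m₂)) := by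
          rw [map_pow, map_pow]
          exact ((X.toRingedSpace.isUnit_res_basicOpen f).pow m₁).mul ((X.toRingedSpace.isUnit_res_basicOpen f).pow m₂)
        have hc := cons V' V hV' hV (X.basicOpen f) (X.basicOpen_le f) (hfW.trans h)
          ((f ^ m₂ * b₁) • z₁ + (f ^ m₁ * b₂) • z₂) z 1
          (rf (X.basicOpen_le f) (f ^ m₁) * rf (X.basicOpen_le f) (f ^ m₂) * rf hfW a) (by
            have e' := congrArg (rs F hfW) e
            rw [rs_rs, map_add, e₁, e₂, rs_smul, rs_rs] at e'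
            rw [one_smul, map_add, rs_smul, rs_smul, map_mul, map_mul, ← hb₁, ← hb₂, mul_smul _ (rf hfW a), ← e',
              smul_add, smul_smul, smul_smul]
            congr 2 <;> ring)
        rw [one_smul, ηadd, ηsmul, ηsmul, map_add, rs_smul, rs_smul, map_mul, map_mul, ← hb₁, ← hb₂,
          mul_smul (rf (X.basicOpen_le f) (f ^ m₁) * rf (X.basicOpen_le f) (f ^ m₂))] at hc
        rw [rs_rs, map_add, k₁, k₂, rs_smul, rs_rs]
        refine hu.smul_left_cancel.1 ?_
        rw [← hc, smul_add, smul_smul, smul_smul]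
        congr 2 <;> ring)
      (fun W c x y hR V hV W' hW h z a e => by
        refine eq_of_locally L _ _ fun p hp => ?_
        obtain ⟨V', hV', f, hle, hpf, hfW⟩ := hloc W' p hp V (h hp)
        refine ⟨_, hfW, hpf, ?_⟩
        obtain ⟨z₁, u₁, e₁⟩ := exists_unit_smul hF (hV'.1.preimage π) f (rs F (hfW.trans hW) x)
        have k₁ := hR V' hV' _ (hfW.trans hW) (X.basicOpen_le f) z₁ u₁ e₁
        have hc := cons V' V hV' hV (X.basicOpen f) (X.basicOpen_le f) (hfW.trans h) z₁ z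
          (rf (hfW.trans hW) c * u₁) (rf hfW a) (by
            have e' := congrArg (rs F hfW) e
            rw [rs_rs, rs_smul, e₁, rs_smul, rs_rs, smul_smul] at e'
            exact e')
        rw [rs_rs, rs_smul, k₁, rs_smul, rs_rs, smul_smul]
        exact hc)
      (fun W x y y' hR hR' => eq_of_locally L _ _ fun p hp => by
        obtain ⟨V, hV, f, -, hpf, hfW⟩ := hloc W p hp ⊤ trivial
        obtain ⟨z, u, e⟩ := exists_unit_smul hF (hV.1.preimage π) f (rs F hfW x)
        exact ⟨_, hfW, hpf, (hR V hV _ hfW _ z u e).trans (hR' V hV _ hfW _ z u e).symm⟩)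
      (fun W x p hp => by
        obtain ⟨V, hV, f, -, hpf, hfW⟩ := hloc W p hp ⊤ trivial
        obtain ⟨z, u, e⟩ := exists_unit_smul hF (hV.1.preimage π) f (rs F hfW x)
        refine ⟨_, hfW, hpf, u • rs L (X.basicOpen_le f) (η V hV z), fun V' hV' W' hW h z' a e' => ?_⟩
        rw [rs_smul, rs_rs]
        refine cons V V' hV hV' W' (hW.trans (X.basicOpen_le f)) h z z' (rf hW u) a ?_
        rw [e, rs_smul, rs_rs] at e'
        exact e')
    refine ⟨φ, Scheme.Modules.hom_ext _ _ fun U => ?_⟩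
    ext z
    show ((Scheme.Modules.pushforward π).map φ ≫ T).app U z = ψ.app U z
    refine eq_of_locally ω _ _ fun p hp => ?_
    obtain ⟨V, hpV, hVU, hV⟩ := hcov p U hp
    refine ⟨V, hVU, hpV, ?_⟩
    rw [← app_rs, ← app_rs, hTa]
    generalize rs ((Scheme.Modules.pushforward π).obj F) hVU z = w
    have hw : φ.app (π ⁻¹ᵁ V) w = η V hV w := hφ _ _ _ fun V' hV' W' hW h z' a e => by
      have := cons V V' hV hV' W' hW h w z' 1 a (by rw [one_smul]; exact e)
      rwa [one_smul] at this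
    rw [hw]
    have := hη V hV w 1
    rwa [one_smul, one_smul] at this

end Groth.Agent.OmegaTop
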