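import Groth.Agent.SBBundle.PicPn
import Groth.Agent.CanonDual.TopDiff
import Groth.Agent.Lib.PnDualTwist
import Groth.Agent.LefPenLib.NondegQuad
import Groth.Agent.S15531
import Groth.Agent.S0844
import Groth.Agent.S0845

/-!
# The top forms of projective space are `O(-n-1)`
-/

set_option autoImplicit false
set_option linter.style.haveILetI false
set_option backward.isDefEq.respectTransparency false
set_option backward.isDefEq.respectTransparency.types false

universe u

open CategoryTheory CategoryTheory.Limits AlgebraicGeometry Opposite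

noncomputable section

namespace Groth.Agent.OmegaTop

variable {k : Type u} [Field k]

/-- An isomorphism of modules gives a linear equivalence on cohomology. -/
def HHequiv {X : Scheme.{u}} [X.Over (Spec (CommRingCat.of k))] {M N : X.Modules} (e : M ≅ N) (r : ℕ) :
    Coh.HH X M r ≃ₗ[k] Coh.HH X N r :=
  LinearEquiv.ofLinearMap (Canon.HHlin k e.hom r) (Canon.HHlin k e.inv r)
    (LinearMap.ext fun x => by
      show Canon.HHlin k e.hom r (Canon.HHlin k e.inv r x) = x
      rw [PnDual.HHlin_comp, e.inv_hom_id, PnDual.HHlin_id])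
    (LinearMap.ext fun x => by
      show Canon.HHlin k e.inv r (Canon.HHlin k e.hom r x) = x
      rw [PnDual.HHlin_comp, e.hom_inv_id, PnDual.HHlin_id])

/-- **`Ω^n = O(-n-1)` on projective `n`-space.** -/
theorem nonempty_iso_topForms (n : ℕ) [QuasiSeparated (CohB1.ProjSpace.toSpec n k)]
    {ω : (CohB1.ProjSpace n k).Modules} (hω : ExtPow.IsExtPow n (Omega.sheaf (CohB1.ProjSpace.toSpec n k)) ω) :
    Nonempty (ω ≅ Twist.twistProjSpace n k (-((n : ℤ) + 1))) := by
  haveI := LefPenLib.smoothOfRelativeDimension_projSpace (k := k) (m := n)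
  obtain ⟨d, ⟨e⟩⟩ := SBBundle.PicPn.exists_iso_twist ω
    (CanonDual.isInvertible_of_isTopDiff (CohB1.ProjSpace.toSpec n k) n hω)
  rcases Nat.eq_zero_or_pos n with rfl | hn
  · refine (SBBundle.PicPn.nonempty_iso_of_frames (fun _ : PUnit.{u + 1} => SBBundle.PicPn.U (K := k) (0 : Fin 1))
      (fun x => ?_) (fun _ => SBBundle.PicPn.twFrame d 0) (fun _ => SBBundle.PicPn.isFrame_twFrame d 0)
      (fun _ => SBBundle.PicPn.twFrame (-(((0 : ℕ) : ℤ) + 1)) 0) (fun _ => SBBundle.PicPn.isFrame_twFrame _ 0)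
      fun a b => ⟨1, (one_smul _ _).symm, (one_smul _ _).symm⟩).map fun e' => e ≪≫ e'
    obtain ⟨i, hi⟩ := SBBundle.PicPn.hcovU x
    obtain rfl : i = 0 := Fin.ext (by omega)
    exact ⟨PUnit.unit, hi⟩
  · obtain ⟨h1⟩ := S15531.result k n hn n le_rfl ω hω
    have h2 : Coh.HH (CohB1.ProjSpace n k) (Twist.twistProjSpace n k d) n ≃ₗ[k] k := (HHequiv e n).symm ≪≫ₗ h1
    have hd : d ≤ -((n : ℤ) + 1) := by
      by_contra hlt
      haveI := S0844.result k n d n (fun h => by omega) (fun h => hlt h.2)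
      exact one_ne_zero (h2.symm.injective (Subsingleton.elim (h2.symm 1) (h2.symm 0)))
    obtain ⟨j, hj⟩ : ∃ j : ℕ, d = -((n : ℤ) + 1 + j) := ⟨(-((n : ℤ) + 1) - d).toNat, by omega⟩
    subst hj
    obtain ⟨h3⟩ := S0845.result k n j
    have hj : j = 0 := by
      by_contra hj
      let φ := h3.symm ≪≫ₗ h2
      let m : Fin (n + 1) → ↥(MvPolynomial.homogeneousSubmodule (Fin (n + 1)) k j) := fun i =>
        ⟨MvPolynomial.X i ^ j, by simpa using (MvPolynomial.isHomogeneous_X k i).pow j⟩
      have h01 : φ (m ⟨1, by omega⟩) • m 0 = φ (m 0) • m ⟨1, by omega⟩ :=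
        φ.injective (by rw [map_smul, map_smul, smul_eq_mul, smul_eq_mul, mul_comm])
      have hc := congrArg (fun p : ↥(MvPolynomial.homogeneousSubmodule (Fin (n + 1)) k j) =>
        (p : MvPolynomial (Fin (n + 1)) k).coeff (Finsupp.single 0 j)) h01
      have hne : Finsupp.single (⟨1, by omega⟩ : Fin (n + 1)) j ≠ Finsupp.single 0 j := fun h => by
        rcases (Finsupp.single_eq_single_iff _ _ _ _).1 h with ⟨h, -⟩ | ⟨h, -⟩
        · exact absurd (congrArg Fin.val h) (by simp)
        · exact hj h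
      simp only [m, SetLike.val_smul, MvPolynomial.coeff_smul, MvPolynomial.X_pow_eq_monomial,
        MvPolynomial.coeff_monomial, if_neg hne, smul_eq_mul, mul_zero] at hc
      have h0 : m ⟨1, by omega⟩ = 0 := φ.map_eq_zero_iff.1 (by
        simpa [m, MvPolynomial.X_pow_eq_monomial] using hc)
      exact pow_ne_zero j (MvPolynomial.X_ne_zero (⟨1, by omega⟩ : Fin (n + 1))) (congrArg Subtype.val h0)
    subst hj
    exact ⟨e ≪≫ eqToIso (by norm_num)⟩

end Groth.Agent.OmegaTop
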