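import Groth.Agent.OmegaTop.SepProj
import Groth.Agent.OmegaTop.PnCanon
import Groth.Agent.OmegaTop.Hom
import Groth.Agent.ExtPowBC.Basic
import Groth.Agent.DRHyp.ExtSheaf
import Groth.Agent.SerreVan45.Main
import Groth.Agent.AmpleVan.LiftFibre
import Groth.Agent.Lib.PnDualQCoh
import Groth.Agent.HodgeLef45.Smooth

/-!
# The top forms are dualizing on smooth projective varieties
-/

set_option autoImplicit false
set_option linter.style.haveILetI false
set_option linter.unusedSectionVars false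
set_option backward.isDefEq.respectTransparency false
set_option backward.isDefEq.respectTransparency.types false

universe u

open CategoryTheory CategoryTheory.Limits AlgebraicGeometry Opposite TopologicalSpace

noncomputable section

namespace Groth.Agent.OmegaTop

section Push

variable {X P : Scheme.{u}} (π : X ⟶ P) [IsAffineHom π]

/-- `N ⊗ π_*F ⟶ π_*(π^*N ⊗ F)`, naturally. -/
def projTw (F : X.Modules) : AmpleVan.tw ((Scheme.Modules.pushforward π).obj F) ⟶
    Scheme.Modules.pullback π ⋙ AmpleVan.tw F ⋙ Scheme.Modules.pushforward π :=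
  ((KFlatLib.tensorBiFlipIso P).app ((Scheme.Modules.pushforward π).obj F)).hom ≫
    SerreVan45.projNat π F ≫
      Functor.whiskerLeft (Scheme.Modules.pullback π)
        (Functor.whiskerRight ((KFlatLib.tensorBiFlipIso X).app F).inv (Scheme.Modules.pushforward π))

theorem isIso_projTw {F : X.Modules} (hF : Coh.IsQCoh F) {N : P.Modules} (hN : Coh.IsQCoh N) :
    IsIso ((projTw π F).app N) := by
  haveI : IsIso (KFlatLib.projMod π F N) := SerreVan45.isIso_projMod π F N hF hN
  haveI : IsIso ((SerreVan45.projNat π F).app N) := this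
  rw [projTw, NatTrans.comp_app, NatTrans.comp_app]
  infer_instance

/-- **`π_* Hom(F, L) = Hom(π_* F, ω)` for a perfect trace.** -/
theorem nonempty_push_hom_iso {L : X.Modules} {ω : P.Modules} (T : (Scheme.Modules.pushforward π).obj L ⟶ ω)
    (hcov : ∀ (y : P) (U : P.Opens), y ∈ U → ∃ V, y ∈ V ∧ V ≤ U ∧ Perfect π T V)
    {F : X.Modules} (hF : Coh.IsQCoh F) (hH : Coh.IsQCoh ((SheafHomX.hom F).obj L))
    (hH' : Coh.IsQCoh ((SheafHomX.hom ((Scheme.Modules.pushforward π).obj F)).obj ω)) :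
    Nonempty ((Scheme.Modules.pushforward π).obj ((SheafHomX.hom F).obj L) ≅
      (SheafHomX.hom ((Scheme.Modules.pushforward π).obj F)).obj ω) := by
  let adjX := SheafHomX.adj F
  let adjP := SheafHomX.adj ((Scheme.Modules.pushforward π).obj F)
  let pp := Scheme.Modules.pullbackPushforwardAdjunction π
  refine SerreVan45.nonempty_iso_of_homs (QCoh.isQCoh_pushforward π hH) hH'
    (fun N hN a => adjP.homEquiv N ω ((projTw π F).app N ≫
      (Scheme.Modules.pushforward π).map ((adjX.homEquiv _ L).symm ((pp.homEquiv N _).symm a)) ≫ T))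
    (fun N hN => ?_) fun N N' hN hN' g a => ?_
  · haveI := isIso_projTw π hF hN
    have hq : Coh.IsQCoh ((AmpleVan.tw F).obj ((Scheme.Modules.pullback π).obj N)) :=
      SerreVan45.isQCoh_tw (QCoh.isQCoh_pullback π hN) hF
    exact (adjP.homEquiv N ω).bijective.comp ((asIso ((projTw π F).app N)).homFromEquiv.symm.bijective.comp
      ((bijective_pushComp π T hq hcov).comp ((adjX.homEquiv _ L).symm.bijective.comp
        (pp.homEquiv N _).symm.bijective)))
  · rw [Adjunction.homEquiv_naturality_left_symm, Adjunction.homEquiv_naturality_left_symm, Functor.map_comp,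
      Category.assoc, ← Adjunction.homEquiv_naturality_left]
    exact congrArg _ ((projTw π F).naturality_assoc g _).symm

end Push

variable {k : Type u} [Field k]

/-- **A finite separable projection with a perfect trace.** -/
theorem exists_dualizing_projection [Infinite k] {X : Scheme.{u}} [IsIntegral X]
    (f : X ⟶ Spec (CommRingCat.of k)) [QuasiSeparated f] (n : ℕ) [SmoothOfRelativeDimension n f] {N : ℕ}
    (ι : X ⟶ CohB1.ProjSpace N k) [IsClosedImmersion ι] (hι : ι ≫ CohB1.ProjSpace.toSpec N k = f)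
    {L : X.Modules} (hL : ExtPow.IsExtPow n (Omega.sheaf f) L) :
    ∃ (π : X ⟶ CohB1.ProjSpace n k) (_ : IsFinite π) (_ : Flat π)
      (T : (Scheme.Modules.pushforward π).obj L ⟶ Twist.twistProjSpace n k (-((n : ℤ) + 1))),
      π ≫ CohB1.ProjSpace.toSpec n k = f ∧
      ∀ (y : ↥(CohB1.ProjSpace n k)) (U : (CohB1.ProjSpace n k).Opens), y ∈ U →
        ∃ V, y ∈ V ∧ V ≤ U ∧ Perfect π T V := by
  have hn : topologicalKrullDim X = n := HodgeLef45.dim_eq f n
  obtain ⟨_, π, hπ, hfin, hflat, hgen, hsep⟩ := exists_separable_projection f n ι hι hn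
  haveI := hfin
  haveI := hflat
  haveI := LefPenLib.smoothOfRelativeDimension_projSpace (k := k) (m := n)
  haveI : Smooth (CohB1.ProjSpace.toSpec n k) := SmoothOfRelativeDimension.smooth n _
  haveI := PnCoh.Chow.isProper_toSpec n k
  haveI : IsLocallyNoetherian (CohB1.ProjSpace n k) :=
    LocallyOfFiniteType.isLocallyNoetherian (CohB1.ProjSpace.toSpec n k)
  obtain ⟨ω₀, hω₀⟩ := DRHyp.ExtSheaf.exists_isExtPow
    (CanonDual.isFinLocFreeOfRank_omega (CohB1.ProjSpace.toSpec n k) n).2 n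
  obtain ⟨e⟩ := nonempty_iso_topForms n hω₀
  obtain ⟨T, hT⟩ := exists_trace (fX := f) (fP := CohB1.ProjSpace.toSpec n k) (π := π) hπ hgen hsep hL hω₀
  refine ⟨π, hfin, hflat, T ≫ e.hom, hπ, fun y U hy => ?_⟩
  obtain ⟨C, hyC, hCU⟩ := exists_chart f (CohB1.ProjSpace.toSpec n k) π n hy
  refine ⟨C.V, hyC, hCU, C.hV, fun g hg => ?_⟩
  have hinv : ∀ z, e.inv.app C.V (e.hom.app C.V z) = z := fun z =>
    congrArg (fun m : ω₀ ⟶ ω₀ => m.app C.V z) e.hom_inv_id
  have hhom : ∀ z, e.hom.app C.V (e.inv.app C.V z) = z := fun z =>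
    congrArg (fun m : Twist.twistProjSpace n k (-((n : ℤ) + 1)) ⟶ _ => m.app C.V z) e.inv_hom_id
  obtain ⟨η, hη, hu⟩ := hT C ((e.inv.app C.V).hom.comp g) fun a x => by
    show e.inv.app C.V (g (π.app C.V a * x)) = _
    rw [hg, Scheme.Modules.Hom.app_smul]
    rfl
  refine ⟨η, fun x => ?_, fun η' hη' => hu η' fun x => ?_⟩
  · show e.hom.app C.V (T.app C.V (x • η)) = g x
    rw [hη x]
    exact hhom (g x)
  · show T.app C.V (x • η') = e.inv.app C.V (g x)
    rw [← hη' x]
    exact (hinv _).symm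

/-- **The top forms with their trace are dualizing.** -/
theorem exists_isRDualOver_topForms [Infinite k] {X : Scheme.{u}} [X.Over (Spec (CommRingCat.of k))] [IsIntegral X]
    [QuasiSeparated (X ↘ Spec (CommRingCat.of k))] (n : ℕ)
    [SmoothOfRelativeDimension n (X ↘ Spec (CommRingCat.of k))] {N : ℕ}
    (ι : X ⟶ CohB1.ProjSpace N k) [IsClosedImmersion ι]
    (hι : ι ≫ CohB1.ProjSpace.toSpec N k = X ↘ Spec (CommRingCat.of k))
    {L : X.Modules} (hL : ExtPow.IsExtPow n (Omega.sheaf (X ↘ Spec (CommRingCat.of k))) L) :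
    ∃ tr : Coh.HH X L n →ₗ[k] k, Canon.IsRDualOver k X n L tr := by
  obtain ⟨π, hfin, hflat, T, hπ, hcov⟩ := exists_dualizing_projection (X ↘ Spec (CommRingCat.of k)) n ι hι hL
  haveI := hfin
  obtain ⟨t⟩ := PnDual.exists_trace' (m := n) (R := k) (b := -((n : ℤ) + 1)) rfl
  exact CanonDual.exists_isRDualOver_of_finite π hπ n _ t.toLinearMap
    ⟨PnDual.isQCoh_O' (ι := Fin (n + 1)) (R := k) (-((n : ℤ) + 1)), fun F hF => PnDual.bijective_dualityMap_qcoh rfl t hF⟩
    L (ProjUPX.isQCoh_of_isInvertible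
      (CanonDual.isInvertible_of_isTopDiff (X ↘ Spec (CommRingCat.of k)) n hL)) T
    fun F hF => bijective_pushComp π T hF hcov

/-- **Serre duality with the top forms.** -/
theorem nonempty_serre_duality [Infinite k] {X : Scheme.{u}} [X.Over (Spec (CommRingCat.of k))] [IsIntegral X]
    [QuasiSeparated (X ↘ Spec (CommRingCat.of k))] (n : ℕ)
    [SmoothOfRelativeDimension n (X ↘ Spec (CommRingCat.of k))] {N : ℕ}
    (ι : X ⟶ CohB1.ProjSpace N k) [IsClosedImmersion ι]
    (hι : ι ≫ CohB1.ProjSpace.toSpec N k = X ↘ Spec (CommRingCat.of k))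
    {L : X.Modules} (hL : ExtPow.IsExtPow n (Omega.sheaf (X ↘ Spec (CommRingCat.of k))) L)
    {F : X.Modules} (hF : FlatMod.IsFinLocFree F) (p : ℕ) (hp : p ≤ n) :
    Nonempty (Module.Dual k (Coh.HH X F p) ≃ₗ[k] Coh.HH X ((SheafHomX.hom F).obj L) (n - p)) := by
  obtain ⟨π, hfin, hflat, T, hπ, hcov⟩ := exists_dualizing_projection (X ↘ Spec (CommRingCat.of k)) n ι hι hL
  haveI := hfin
  haveI := hflat
  haveI : Smooth (X ↘ Spec (CommRingCat.of k)) := SmoothOfRelativeDimension.smooth n _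
  haveI : IsLocallyNoetherian X := LocallyOfFiniteType.isLocallyNoetherian (X ↘ Spec (CommRingCat.of k))
  haveI := CurveEmbed.smooth_toSpec n k
  haveI : IsLocallyNoetherian (CohB1.ProjSpace n k) :=
    LocallyOfFiniteType.isLocallyNoetherian (CohB1.ProjSpace.toSpec n k)
  have hFq : Coh.IsQCoh F := QCoh.isQCoh_of_isFinLocFree hF
  have hLi := CanonDual.isInvertible_of_isTopDiff (X ↘ Spec (CommRingCat.of k)) n hL
  have hH : Coh.IsQCoh ((SheafHomX.hom F).obj L) := (SheafHomX.isCoh_hom (SerreVan45.isCoh_of_finLocFree hF)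
    (SerreVan45.isCoh_of_finLocFree (H23.PullPush.isFinLocFree_of_isInvertible hLi))).1
  let E := (Scheme.Modules.pushforward π).obj F
  let ω := Twist.twistProjSpace n k (-((n : ℤ) + 1))
  have hω : FlatMod.IsFinLocFree ω := H23.PullPush.isFinLocFree_of_isInvertible
    (PnCoh.Finite.isInvertible_twist (fun j : ULift.{u} (Fin (n + 1)) => MvPolynomial.X j.down)
      (fun j => Groth.Agent.ProjPt.X_mem j.down) (top_le_iff.1 ((AmpleEmbed.iSup_basicOpen_X n k).ge.trans
        (iSup_le fun j => le_iSup_of_le (ULift.up j) le_rfl))) _)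
  have hE : FlatMod.IsFinLocFree E := SerreVan45.isFinLocFree_push π hF
  have hEc : Coh.IsCoh E := SerreVan45.isCoh_of_finLocFree hE
  obtain ⟨θ⟩ := nonempty_push_hom_iso π T hcov hFq hH
    (SheafHomX.isCoh_hom hEc (SerreVan45.isCoh_of_finLocFree hω)).1
  haveI : HasExt.{u} (CohB1.ProjSpace n k).Modules :=
    haveI : EnoughInjectives (CohB1.ProjSpace n k).Modules := inferInstanceAs (EnoughInjectives (SheafOfModules _))
    inferInstance
  obtain ⟨d⟩ := (PnDual.serre_duality (PnDual.goodPn_of_isCoh hEc) (n - p)).1 (Nat.sub_le n p)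
  rw [show n - (n - p) = p by omega] at d
  obtain ⟨a⟩ := PnDual.nonempty_ext_linearEquiv_HH (A := k) hE ω (n - p)
  obtain ⟨e₁, -⟩ := CanonDual.exists_natural_linearEquiv_push (A := k) π hπ p
  obtain ⟨e₂, -⟩ := CanonDual.exists_natural_linearEquiv_push (A := k) π hπ (n - p)
  exact ⟨(e₁ F hFq).symm.dualMap ≪≫ₗ d.symm ≪≫ₗ a ≪≫ₗ (HHequiv θ (n - p)).symm ≪≫ₗ (e₂ _ hH).symm⟩

end Groth.Agent.OmegaTop
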