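import Groth.Agent.OmegaTop.TraceAlg
import Groth.Agent.OmegaUniv.ToSectIso
import Groth.Agent.OmegaUniv.Universal
import Groth.Agent.S9370
import Groth.Agent.H23.Frame
import Groth.Agent.H23.PullPush
import Groth.Agent.FittX.FinSet
import Groth.Agent.SerreVan45.PushFree
import Groth.Agent.CanonDual.TopDiff

/-!
# The pullback of differentials along a finite flat map of smooth schemes
-/

set_option autoImplicit false
set_option linter.style.haveILetI false
set_option linter.unusedSectionVars false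
set_option backward.isDefEq.respectTransparency false
set_option backward.isDefEq.respectTransparency.types false

universe u

open CategoryTheory CategoryTheory.Limits AlgebraicGeometry Opposite TopologicalSpace Module
open Groth.Agent.LogModGeo (rs rf rs_rs rf_rf rs_refl rf_refl rs_smul app_rs eq_of_locally exists_glue
  exists_affine_nhd exists_hom_of_rel)

noncomputable section

namespace Groth.Agent.OmegaTop

variable {X P S : Scheme.{u}} (fX : X ⟶ S) (fP : P ⟶ S) (π : X ⟶ P)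

/-- The pullback of differentials, on sections. -/
structure Kappa [QuasiSeparated fX] [QuasiSeparated fP] where
  /-- the map on sections -/
  app : ∀ V : P.Opens, Γ(Omega.sheaf fP, V) →+ Γ(Omega.sheaf fX, π ⁻¹ᵁ V)
  app_smul : ∀ (V : P.Opens) (a : Γ(P, V)) (v : Γ(Omega.sheaf fP, V)), app V (a • v) = π.app V a • app V v
  app_rs : ∀ {V W : P.Opens} (h : W ≤ V) (v : Γ(Omega.sheaf fP, V)),
    rs (Omega.sheaf fX) (fun x hx => h hx : π ⁻¹ᵁ W ≤ π ⁻¹ᵁ V) (app V v) = app W (rs (Omega.sheaf fP) h v)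
  app_d : ∀ (V : P.Opens) (a : Γ(P, V)), app V (OmegaSh.dSect fP V a) = OmegaSh.dSect fX (π ⁻¹ᵁ V) (π.app V a)

theorem nonempty_kappa [QuasiSeparated fX] [QuasiSeparated fP] (hπ : π ≫ fP = fX) : Nonempty (Kappa fX fP π) := by
  obtain ⟨c, hc, -⟩ := S9370.result fP fX π (𝟙 S) (by rw [Category.comp_id, hπ]) _ _
    (OmegaUniv.isUniversal_dOmega fP) _ _ (OmegaUniv.isUniversal_dOmega fX)
  let adj := Scheme.Modules.pullbackPushforwardAdjunction π
  let ψ := adj.homEquiv _ _ c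
  refine ⟨⟨fun V => (ψ.app V).hom, fun V a v => Scheme.Modules.Hom.app_smul ψ a v, fun h v => ?_, fun V a => ?_⟩⟩
  · exact (app_rs ψ h v).symm
  · show ψ.app V _ = _
    rw [show ψ = adj.unit.app _ ≫ (Scheme.Modules.pushforward π).map c from adj.homEquiv_unit _ _ _]
    exact hc V a

theorem appLE_tower (hπ : π ≫ fP = fX) (T : S.Opens) (V : P.Opens) (hle : V ≤ fP ⁻¹ᵁ T)
    (hleX : π ⁻¹ᵁ V ≤ fX ⁻¹ᵁ T) : fX.appLE T (π ⁻¹ᵁ V) hleX = fP.appLE T V hle ≫ π.app V := by
  subst hπ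
  rw [Scheme.Hom.app_eq_appLE, Scheme.Hom.appLE_comp_appLE]

theorem preimage_le_of_comp (hπ : π ≫ fP = fX) {T : S.Opens} {V : P.Opens} (hle : V ≤ fP ⁻¹ᵁ T) :
    π ⁻¹ᵁ V ≤ fX ⁻¹ᵁ T := by
  subst hπ
  exact fun x hx => hle hx

/-- A chart: an affine open with frames of the differentials and free direct image. -/
structure Chart (n : ℕ) where
  /-- the open -/
  V : P.Opens
  hV : IsAffineOpen V
  /-- a basis downstairs -/
  bA : Basis (Fin n) Γ(P, V) Γ(Omega.sheaf fP, V)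
  /-- a basis upstairs -/
  bB : Basis (Fin n) Γ(X, π ⁻¹ᵁ V) Γ(Omega.sheaf fX, π ⁻¹ᵁ V)
  free : @Module.Free Γ(P, V) Γ(X, π ⁻¹ᵁ V) _ _ (π.app V).hom.toAlgebra.toModule

theorem exists_basis_of_trivial {Z : Scheme.{u}} {M : Z.Modules} {U W : Z.Opens} {n : ℕ}
    (e : M.restrict U.ι ≅ FlatMod.freeMod (U : Scheme.{u}) n) (hle : W ≤ U) :
    Nonempty (Basis (Fin n) Γ(Z, W) Γ(M, W)) := by
  obtain ⟨s, hs⟩ := H23.Frame.exists_frame e
  let l : (Fin n → Γ(Z, W)) →ₗ[Γ(Z, W)] Γ(M, W) :=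
    Fintype.linearCombination Γ(Z, W) fun i => M.presheaf.map (homOfLE hle).op (s i)
  exact ⟨Basis.ofEquivFun (LinearEquiv.ofBijective l (hs W hle)).symm⟩

/-- Charts exist near every point. -/
theorem exists_chart [QuasiSeparated fX] [QuasiSeparated fP] [IsLocallyNoetherian P] [IsFinite π] [Flat π]
    (n : ℕ) [SmoothOfRelativeDimension n fX] [SmoothOfRelativeDimension n fP] {y : P} {U : P.Opens} (hy : y ∈ U) :
    ∃ C : Chart fX fP π n, y ∈ C.V ∧ C.V ≤ U := by
  obtain ⟨U₁, hy₁, ⟨e₁⟩⟩ := (CanonDual.isFinLocFreeOfRank_omega fP n).1 y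
  obtain ⟨U₂, hy₂, ⟨e₂⟩⟩ := FittX.exists_trivial_over_preimage π (Omega.sheaf fX)
    (CanonDual.isFinLocFreeOfRank_omega fX n).1 y
  haveI : IsLocallyNoetherian X := LocallyOfFiniteType.isLocallyNoetherian π
  obtain ⟨U₃, r, hy₃, ⟨e₃⟩⟩ := SerreVan45.isFinLocFree_push π
    (H23.PullPush.isFinLocFree_of_isInvertible (InvX.isInvertible_structureModule (X := X))) y
  obtain ⟨⟨V, hV⟩, hyV, hle⟩ := exists_affine_nhd (show y ∈ U ⊓ U₁ ⊓ U₂ ⊓ U₃ from ⟨⟨⟨hy, hy₁⟩, hy₂⟩, hy₃⟩)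
  obtain ⟨bA⟩ := exists_basis_of_trivial e₁ (hle.trans (inf_le_left.trans (inf_le_left.trans inf_le_right)))
  obtain ⟨bB⟩ := exists_basis_of_trivial e₂ (W := π ⁻¹ᵁ V)
    (fun x hx => (inf_le_right : U ⊓ U₁ ⊓ U₂ ≤ U₂) ((inf_le_left : U ⊓ U₁ ⊓ U₂ ⊓ U₃ ≤ _) (hle hx)))
  obtain ⟨bC⟩ := exists_basis_of_trivial e₃ (hle.trans inf_le_right)
  refine ⟨⟨V, hV, bA, bB, ?_⟩, hyV, hle.trans (inf_le_left.trans (inf_le_left.trans inf_le_left))⟩
  letI := (π.app V).hom.toAlgebra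
  let l : Γ((Scheme.Modules.pushforward π).obj (Coh.structureModule X), V) ≃ₗ[Γ(P, V)] Γ(X, π ⁻¹ᵁ V) :=
    { toFun := fun x => x
      invFun := fun x => x
      map_add' := fun _ _ => rfl
      map_smul' := fun _ _ => rfl
      left_inv := fun _ => rfl
      right_inv := fun _ => rfl }
  exact Module.Free.of_basis (bC.map l)

variable {fX fP π} [QuasiSeparated fX] [QuasiSeparated fP] {n : ℕ}

/-- The Jacobian determinant in a chart. -/
def Kappa.det (κ : Kappa fX fP π) (C : Chart fX fP π n) : Γ(X, π ⁻¹ᵁ C.V) :=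
  (Matrix.of fun i j => C.bB.repr (κ.app C.V (C.bA i)) j).det

/-- The Jacobian determinant generates the Kähler different. -/
theorem Kappa.fitting_eq [IsAffineHom π] (hπ : π ≫ fP = fX) (κ : Kappa fX fP π) (C : Chart fX fP π n)
    {T : S.Opens} (hT : IsAffineOpen T) (hle : C.V ≤ fP ⁻¹ᵁ T) :
    letI := (π.app C.V).hom.toAlgebra
    Fitt.ideal Γ(X, π ⁻¹ᵁ C.V) (KaehlerDifferential Γ(P, C.V) Γ(X, π ⁻¹ᵁ C.V)) 0 = Ideal.span {κ.det C} := by
  letI := (π.app C.V).hom.toAlgebra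
  let k := Γ(S, T)
  let A := Γ(P, C.V)
  let B := Γ(X, π ⁻¹ᵁ C.V)
  have hleX : π ⁻¹ᵁ C.V ≤ fX ⁻¹ᵁ T := preimage_le_of_comp fX fP π hπ hle
  letI : Algebra k A := (fP.appLE T C.V hle).hom.toAlgebra
  letI : Algebra k B := (fX.appLE T (π ⁻¹ᵁ C.V) hleX).hom.toAlgebra
  haveI : IsScalarTower k A B := IsScalarTower.of_algebraMap_eq fun r => by
    show fX.appLE T (π ⁻¹ᵁ C.V) hleX r = (fP.appLE T C.V hle ≫ π.app C.V) r
    rw [appLE_tower fX fP π hπ T C.V hle hleX]
  let eP : Ω[A⁄k] ≃ₗ[A] Γ(Omega.sheaf fP, C.V) :=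
    LinearEquiv.ofBijective (OmAff.toSect fP T C.V hle).hom (OmegaUniv.toSect_bijective fP C.hV hT hle)
  let eX : Ω[B⁄k] ≃ₗ[B] Γ(Omega.sheaf fX, π ⁻¹ᵁ C.V) :=
    LinearEquiv.ofBijective (OmAff.toSect fX T (π ⁻¹ᵁ C.V) hleX).hom
      (OmegaUniv.toSect_bijective fX (C.hV.preimage π) hT hleX)
  have hcompat : ∀ z, eX (KaehlerDifferential.map k k A B z) = κ.app C.V (eP z) := by
    intro z
    have hz : z ∈ Submodule.span A (Set.range (KaehlerDifferential.D k A)) := by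
      rw [KaehlerDifferential.span_range_derivation]; trivial
    induction hz using Submodule.span_induction with
    | mem _ h =>
      obtain ⟨a, rfl⟩ := h
      rw [KaehlerDifferential.map_D]
      refine (OmAff.toSect_d fX T _ hleX (π.app C.V a)).trans ?_
      rw [← κ.app_d]
      exact congrArg (κ.app C.V) (OmAff.toSect_d fP T _ hle a).symm
    | zero => simp
    | add a b _ _ ha hb => simp only [map_add, ha, hb]
    | smul a z _ hz =>
      rw [LinearMap.map_smul, ← algebraMap_smul B a (KaehlerDifferential.map k k A B z), eX.map_smul, hz,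
        eP.map_smul, κ.app_smul]
      rfl
  rw [fitting_eq_span_det (k := k) (C.bA.map eP.symm) (C.bB.map eX.symm)]
  refine congrArg (fun t : B => Ideal.span {t}) (congrArg Matrix.det (Matrix.ext fun i j => ?_))
  show (C.bB.map eX.symm).repr (KaehlerDifferential.map k k A B (eP.symm (C.bA i))) j = _
  rw [Basis.map_repr, LinearEquiv.trans_apply, LinearEquiv.symm_symm, hcompat, LinearEquiv.apply_symm_apply]
  rfl

end Groth.Agent.OmegaTop
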