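import Groth.Agent.OmegaTop.Duality
import Groth.Agent.Lib.AmpleEmbed
import Groth.Agent.AlgSpDec.SmoothLocDim

/-!
# Serre duality with the top forms for smooth projective varieties over infinite fields

Wrappers of `OmegaTop.Duality`: hypotheses "irreducible/integral, smooth of dimension `n`, proper with an ample module".
-/

set_option autoImplicit false
set_option linter.style.haveILetI false
set_option linter.unusedSectionVars false
set_option backward.isDefEq.respectTransparency false
set_option backward.isDefEq.respectTransparency.types false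

universe u

open CategoryTheory CategoryTheory.Limits AlgebraicGeometry Opposite TopologicalSpace

noncomputable section

namespace Groth.Agent.OmegaTop

variable {k : Type u} [Field k]

/-- A smooth integral scheme of dimension `n` is smooth of relative dimension `n`. -/
theorem smoothOfRelativeDimension_of_dim {X : Scheme.{u}} [IsIntegral X] (f : X ⟶ Spec (CommRingCat.of k))
    [Smooth f] (n : ℕ) (hn : topologicalKrullDim X = n) : SmoothOfRelativeDimension n f := by
  haveI : IsLocallyNoetherian X := LocallyOfFiniteType.isLocallyNoetherian f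
  have key : ∀ x : X, ∃ V : X.Opens, x ∈ V ∧ SmoothOfRelativeDimension n (V.ι ≫ f) := by
    intro x
    obtain ⟨V, j, v, m, hj, rfl, hm⟩ := AlgSpDec.SmoothLocDim.exists_smoothOfRelativeDimension_nhd f x
    haveI := hj
    haveI : Nonempty V := ⟨v⟩
    haveI : IsIntegral V := isIntegral_of_isOpenImmersion j
    haveI := hm
    have h1 := HodgeLef45.dim_eq (j ≫ f) m
    have h2 : topologicalKrullDim V = n := by
      rw [← hn, VarDim.topologicalKrullDim_eq_deg_genericPoint f]
      refine (IsHomeomorph.topologicalKrullDim_eq _ j.isoOpensRange.hom.homeomorph.isHomeomorph).trans ?_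
      show topologicalKrullDim (j.opensRange : Set X) = _
      rw [VarDim.topologicalKrullDim_opens_eq_iSup_deg f j.opensRange]
      refine le_antisymm (iSup_le fun z => ?_) (le_iSup_of_le ⟨genericPoint X, ?_⟩ le_rfl)
      · exact_mod_cast VarDim.deg_le_of_specializes f (genericPoint_specializes _)
      · exact (genericPoint_specializes (j v)).mem_open j.opensRange.2 ⟨v, rfl⟩
    obtain rfl : m = n := by exact_mod_cast h1.symm.trans h2
    refine ⟨j.opensRange, ⟨v, rfl⟩, ?_⟩
    have e : j.opensRange.ι = j.isoOpensRange.inv ≫ j := by simp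
    rw [e, Category.assoc]
    exact (MorphismProperty.cancel_left_of_respectsIso (@SmoothOfRelativeDimension m) _ _).2 hm
  choose V hV hS using key
  exact (IsZariskiLocalAtSource.iff_of_iSup_eq_top (P := @SmoothOfRelativeDimension n) V
    (eq_top_iff.2 fun x _ => Opens.mem_iSup.2 ⟨x, hV x⟩)).2 hS

variable [Infinite k] {X : Scheme.{u}} [X.Over (Spec (CommRingCat.of k))] [IsIntegral X]
  [IsProper (X ↘ Spec (CommRingCat.of k))] (n : ℕ) [SmoothOfRelativeDimension n (X ↘ Spec (CommRingCat.of k))]

/-- The top forms are dualizing (ample version). -/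
theorem exists_isRDualOver_topForms_of_isAmple {A : X.Modules} (hA : CohB1.IsAmple A) {L : X.Modules}
    (hL : ExtPow.IsExtPow n (Omega.sheaf (X ↘ Spec (CommRingCat.of k))) L) :
    ∃ tr : Coh.HH X L n →ₗ[k] k, Canon.IsRDualOver k X n L tr := by
  obtain ⟨N, ι, hι, hf⟩ := AmpleEmbed.exists_closedImmersion (X ↘ Spec (CommRingCat.of k)) hA
  haveI := hι
  exact exists_isRDualOver_topForms n ι hf hL

/-- Serre duality with the top forms (ample version). -/
theorem nonempty_serre_duality_of_isAmple {A : X.Modules} (hA : CohB1.IsAmple A) {L : X.Modules}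
    (hL : ExtPow.IsExtPow n (Omega.sheaf (X ↘ Spec (CommRingCat.of k))) L)
    {F : X.Modules} (hF : FlatMod.IsFinLocFree F) (p : ℕ) (hp : p ≤ n) :
    Nonempty (Module.Dual k (Coh.HH X F p) ≃ₗ[k] Coh.HH X ((SheafHomX.hom F).obj L) (n - p)) := by
  obtain ⟨N, ι, hι, hf⟩ := AmpleEmbed.exists_closedImmersion (X ↘ Spec (CommRingCat.of k)) hA
  haveI := hι
  exact nonempty_serre_duality n ι hf hL hF p hp

end Groth.Agent.OmegaTop
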