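import Groth.Agent.OmegaTop.Trace
import Groth.Agent.SerreVan45.FlatProj
import Groth.Agent.CurveVA.Converse
import Groth.Agent.GGen.Wedge
import Groth.Agent.Lib.AmpleEmbed
import Mathlib.RingTheory.Unramified.Field
import Mathlib.RingTheory.Etale.Kaehler

/-!
# A finite separable projection of a smooth projective variety to projective space

Linear forms without common zero whose ratios have independent differentials at the generic point.
-/

set_option autoImplicit false
set_option linter.style.haveILetI false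
set_option linter.unusedSectionVars false
set_option backward.isDefEq.respectTransparency false
set_option backward.isDefEq.respectTransparency.types false

universe u

open CategoryTheory CategoryTheory.Limits AlgebraicGeometry Opposite TopologicalSpace Module MvPolynomial Order
open HomogeneousLocalization (Away)

noncomputable section

namespace Groth.Agent.OmegaTop

open Groth.Agent.H23

section Linear

/-- A derivation of the fraction field is spanned by its values on algebra generators of the ring. -/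
theorem span_D_ratio {k K : Type u} [CommRing k] [Field K] [Algebra k K] {ι : Type} (r : ι → K) (w : K)
    (hw : w ≠ 0) (h1 : ∃ i, r i = 1) (hr : Submodule.span K (Set.range fun i => KaehlerDifferential.D k K (r i)) = ⊤) :
    Submodule.span K (Set.range fun i => KaehlerDifferential.D k K (r i / w)) = ⊤ := by
  set U := Submodule.span K (Set.range fun i => KaehlerDifferential.D k K (r i / w))
  obtain ⟨i₀, hi₀⟩ := h1
  have hu : KaehlerDifferential.D k K w⁻¹ ∈ U := Submodule.subset_span ⟨i₀, by simp [hi₀, one_div]⟩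
  have hw' : KaehlerDifferential.D k K w ∈ U := by
    rw [← inv_inv w, Derivation.leibniz_inv]
    exact U.smul_mem _ hu
  rw [eq_top_iff, ← hr, Submodule.span_le]
  rintro _ ⟨i, rfl⟩
  show KaehlerDifferential.D k K (r i) ∈ U
  rw [show r i = r i / w * w from (div_mul_cancel₀ _ hw).symm, Derivation.leibniz]
  exact add_mem (U.smul_mem _ hw') (U.smul_mem _ (Submodule.subset_span ⟨i, rfl⟩))

variable {k : Type u} [Field k] [Infinite k]

/-- A linear form avoiding finitely many points and a proper subspace. -/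
theorem exists_linear_form {N : ℕ} (F : Set ↥(CohB1.ProjSpace N k)) (hF : F.Finite)
    (bad : Submodule k (Fin (N + 1) → k)) (hbad : bad ≠ ⊤) :
    ∃ c : Fin (N + 1) → k, c ∉ bad ∧ (Fintype.linearCombination k fun i => (X i : MvPolynomial (Fin (N + 1)) k)) c ∈ CohB1.polyGrading N k 1 ∧
      ∀ y ∈ F, y ∈ Proj.basicOpen (CohB1.polyGrading N k)
        ((Fintype.linearCombination k fun i => (X i : MvPolynomial (Fin (N + 1)) k)) c) := by
  let φ : (Fin (N + 1) → k) →ₗ[k] MvPolynomial (Fin (N + 1)) k := Fintype.linearCombination k fun i => X i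
  have hφ : ∀ c, φ c ∈ CohB1.polyGrading N k 1 := fun c => by
    rw [Fintype.linearCombination_apply]
    exact sum_mem fun i _ => Submodule.smul_mem _ _ (Groth.Agent.ProjPt.X_mem i)
  let badY : ↥(CohB1.ProjSpace N k) → Subspace k (Fin (N + 1) → k) := fun y =>
    ((y.asHomogeneousIdeal.toIdeal.restrictScalars k).comap φ)
  haveI := hF.to_subtype
  let p : Option F → Subspace k (Fin (N + 1) → k) := fun o => o.elim bad fun y => badY y.1
  have htop : ∀ o, p o ≠ ⊤ := by
    rintro (_ | ⟨y, -⟩)
    · exact hbad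
    · intro hy
      obtain ⟨i, hi⟩ := ProjUPX.cov_X y
      refine hi ?_
      have hy' : badY y = ⊤ := hy
      have h : Pi.single i (1 : k) ∈ badY y := by rw [hy']; exact Submodule.mem_top
      change φ (Pi.single i (1 : k)) ∈ y.asHomogeneousIdeal.toIdeal at h
      simpa [φ, Fintype.linearCombination_apply_single] using h
  have := mt (Subspace.exists_eq_top_of_iUnion_eq_univ (p := p)) (fun ⟨o, ho⟩ => htop o ho)
  obtain ⟨c, hc⟩ := (Set.ne_univ_iff_exists_notMem _).1 this
  simp only [Set.mem_iUnion, not_exists] at hc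
  exact ⟨c, hc none, hφ c, fun y hy h => hc (some ⟨y, hy⟩) h⟩

/-- Linear forms without common zero on a subscheme, with ratios of independent differentials. -/
theorem exists_forms {X : Scheme.{u}} [IsIntegral X] [IsNoetherian X] {N : ℕ} (ι : X ⟶ CohB1.ProjSpace N k) (n : ℕ)
    (hn : topologicalKrullDim X ≤ n) [Algebra k X.functionField]
    (ρ : MvPolynomial (Fin (N + 1)) k →ₐ[k] X.functionField) (h1 : ∃ i, ρ (MvPolynomial.X i) = 1)
    (hρ : Submodule.span X.functionField (Set.range fun i => KaehlerDifferential.D k X.functionField (ρ (MvPolynomial.X i))) = ⊤)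
    (hne : ∀ l ∈ CohB1.polyGrading N k 1,
      ι (genericPoint X) ∈ Proj.basicOpen (CohB1.polyGrading N k) l → ρ l ≠ 0)
    (hrank : Module.finrank X.functionField Ω[X.functionField⁄k] = n)
    [Module.Finite X.functionField Ω[X.functionField⁄k]] :
    ∃ (l₀ : MvPolynomial (Fin (N + 1)) k) (l : Fin n → MvPolynomial (Fin (N + 1)) k),
      l₀ ∈ CohB1.polyGrading N k 1 ∧ (∀ i, l i ∈ CohB1.polyGrading N k 1) ∧
      ι (genericPoint X) ∈ Proj.basicOpen (CohB1.polyGrading N k) l₀ ∧
      (∀ x : X, ι x ∈ Proj.basicOpen (CohB1.polyGrading N k) l₀ ∨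
        ∃ i, ι x ∈ Proj.basicOpen (CohB1.polyGrading N k) (l i)) ∧
      LinearIndependent X.functionField fun i => KaehlerDifferential.D k X.functionField (ρ (l i) / ρ l₀) := by
  obtain ⟨c₀, -, hl₀, hg₀⟩ := exists_linear_form (k := k) {ι (genericPoint X)} (Set.finite_singleton _) ⊥
    bot_ne_top
  set l₀ := (Fintype.linearCombination k fun i => (MvPolynomial.X i : MvPolynomial (Fin (N + 1)) k)) c₀
  have hgen : ι (genericPoint X) ∈ Proj.basicOpen (CohB1.polyGrading N k) l₀ := hg₀ _ rfl
  have hw := hne l₀ hl₀ hgen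
  have hspan := span_D_ratio (fun i => ρ (MvPolynomial.X i)) (ρ l₀) hw h1 hρ
  suffices key : ∀ j : ℕ, j ≤ n → ∃ l : Fin j → MvPolynomial (Fin (N + 1)) k,
      (∀ i, l i ∈ CohB1.polyGrading N k 1) ∧
      (LinearIndependent X.functionField fun i => KaehlerDifferential.D k X.functionField (ρ (l i) / ρ l₀)) ∧
      ∀ T : IrreducibleCloseds X, (∀ x ∈ (T : Set X), ι x ∉ Proj.basicOpen (CohB1.polyGrading N k) l₀ ∧
          ∀ i, ι x ∉ Proj.basicOpen (CohB1.polyGrading N k) (l i)) → height T + (j + 1 : ℕ) ≤ n by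
    obtain ⟨l, hl, hli, h⟩ := key n le_rfl
    refine ⟨l₀, l, hl₀, hl, hgen, fun x => ?_, hli⟩
    by_contra! hx
    have := h ⟨closure {x}, isIrreducible_singleton.closure, isClosed_closure⟩ fun z hz =>
      ⟨fun hzi => hx.1 ((specializes_iff_mem_closure.2 hz).mem_open (ι ⁻¹ᵁ Proj.basicOpen _ l₀).2 hzi),
        fun i hzi => hx.2 i ((specializes_iff_mem_closure.2 hz).mem_open (ι ⁻¹ᵁ Proj.basicOpen _ (l i)).2 hzi)⟩
    have h2 : ((n + 1 : ℕ) : ℕ∞) ≤ (n : ℕ∞) := le_add_self.trans this
    norm_cast at h2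
    omega
  intro j hj
  induction j with
  | zero =>
    refine ⟨fun i => i.elim0, fun i => i.elim0, linearIndependent_empty_type, fun T hT => ?_⟩
    let C : IrreducibleCloseds X := ⟨Set.univ, IrreducibleSpace.isIrreducible_univ X, isClosed_univ⟩
    have hlt : T < C := lt_of_le_of_ne (Set.subset_univ _) fun e =>
      (hT (genericPoint X) (by rw [e]; trivial)).1 hgen
    have hC : height C ≤ n := by
      have := (height_le_krullDim C).trans hn
      exact_mod_cast this
    calc height T + ((0 + 1 : ℕ) : ℕ∞) = height T + 1 := by norm_num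
      _ ≤ height C := height_add_one_le hlt
      _ ≤ n := hC
  | succ j ih =>
    obtain ⟨l, hl, hli, h⟩ := ih (by omega)
    let Z : Set X := ((ι ⁻¹ᵁ Proj.basicOpen (CohB1.polyGrading N k) l₀ : Set X) ∪
      ⋃ i, (ι ⁻¹ᵁ Proj.basicOpen (CohB1.polyGrading N k) (l i) : Set X))ᶜ
    have hZ : IsClosed Z :=
      (((ι ⁻¹ᵁ _).2).union (isOpen_iUnion fun i => (ι ⁻¹ᵁ _).2)).isClosed_compl
    obtain ⟨S, hSf, hSc, hSi, hSU⟩ := NoetherianSpace.exists_finite_set_isClosed_irreducible hZ
    choose g hg using fun t : S => QuasiSober.sober (hSi t.1 t.2) (hSc t.1 t.2)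
    haveI := hSf.to_subtype
    let U := Submodule.span X.functionField
      (Set.range fun i => KaehlerDifferential.D k X.functionField (ρ (l i) / ρ l₀))
    let Ψ : (Fin (N + 1) → k) →ₗ[k] Ω[X.functionField⁄k] :=
      (KaehlerDifferential.D k X.functionField).toLinearMap ∘ₗ (LinearMap.mulRight k (ρ l₀)⁻¹) ∘ₗ
        ρ.toLinearMap ∘ₗ (Fintype.linearCombination k fun i => (MvPolynomial.X i : MvPolynomial (Fin (N + 1)) k))
    have hΨ : ∀ c, Ψ c = KaehlerDifferential.D k X.functionField
        (ρ ((Fintype.linearCombination k fun i => (MvPolynomial.X i : MvPolynomial (Fin (N + 1)) k)) c) / ρ l₀) :=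
      fun c => by rw [div_eq_mul_inv]; rfl
    have hbad : (U.restrictScalars k).comap Ψ ≠ ⊤ := by
      intro htop
      have hU : U = ⊤ := by
        rw [eq_top_iff, ← hspan, Submodule.span_le]
        rintro _ ⟨i, rfl⟩
        have h2 : Pi.single i (1 : k) ∈ (U.restrictScalars k).comap Ψ := htop ▸ Submodule.mem_top
        rw [Submodule.mem_comap, hΨ, Fintype.linearCombination_apply_single, one_smul] at h2
        exact h2
      have h3 : Module.finrank X.functionField U ≤ j := by
        refine (finrank_range_le_card _).trans ?_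
        simp
      rw [hU, finrank_top, hrank] at h3
      omega
    obtain ⟨c, hc, hl₁, hl₁F⟩ := exists_linear_form (k := k) (Set.range fun t => ι (g t)) (Set.finite_range _)
      _ hbad
    set l₁ := (Fintype.linearCombination k fun i => (MvPolynomial.X i : MvPolynomial (Fin (N + 1)) k)) c
    refine ⟨Fin.snoc l l₁, Fin.lastCases (by simpa using hl₁) fun i => by simpa using hl i, ?_, fun T hT => ?_⟩
    · have : (fun i => KaehlerDifferential.D k X.functionField (ρ ((Fin.snoc l l₁ : Fin (j + 1) → _) i) / ρ l₀)) =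
          Fin.snoc (fun i => KaehlerDifferential.D k X.functionField (ρ (l i) / ρ l₀))
            (KaehlerDifferential.D k X.functionField (ρ l₁ / ρ l₀)) := by
        funext i
        induction i using Fin.lastCases <;> simp
      rw [this, linearIndependent_finSnoc]
      exact ⟨hli, fun hmem => hc (by rw [Submodule.mem_comap, hΨ]; exact hmem)⟩
    have hTZ : (T : Set X) ⊆ Z := fun x hx => by
      simp only [Z, Set.mem_compl_iff, Set.mem_union, Set.mem_iUnion, not_or, not_exists]
      exact ⟨(hT x hx).1, fun i hi => (hT x hx).2 i.castSucc (by simpa using hi)⟩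
    obtain ⟨t, htS, htT⟩ := isIrreducible_iff_sUnion_isClosed.1 T.2 hSf.toFinset (fun t ht => hSc t (hSf.mem_toFinset.1 ht))
      (by rw [hSf.coe_toFinset, ← hSU]; exact hTZ)
    rw [hSf.mem_toFinset] at htS
    let C : IrreducibleCloseds X := ⟨t, hSi t htS, hSc t htS⟩
    have hlt : T < C := lt_of_le_of_ne htT fun e => by
      refine (hT (g ⟨t, htS⟩) ?_).2 (Fin.last j) (by simpa using hl₁F _ ⟨⟨t, htS⟩, rfl⟩)
      rw [e]
      exact (hg ⟨t, htS⟩).mem
    have hC := h C fun x hx => by
      have hxZ : x ∈ Z := hSU ▸ ⟨t, htS, hx⟩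
      simp only [Z, Set.mem_compl_iff, Set.mem_union, Set.mem_iUnion, not_or, not_exists] at hxZ
      exact hxZ
    calc height T + ((j + 1 + 1 : ℕ) : ℕ∞) = height T + 1 + (j + 1 : ℕ) := by push_cast; ring
      _ ≤ height C + (j + 1 : ℕ) := by gcongr; exact height_add_one_le hlt
      _ ≤ n := hC

end Linear

section Function

variable {k : Type u} [Field k] {X : Scheme.{u}} [IsIntegral X] (f : X ⟶ Spec (CommRingCat.of k))

/-- Constants as generic functions. -/
def constK : k →+* X.functionField :=
  (X.presheaf.germ ⊤ (genericPoint X) trivial).hom.comp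
    (f.appTop.hom.comp (Scheme.ΓSpecIso (CommRingCat.of k)).inv.hom)

theorem constK_eq {U : X.Opens} (h : genericPoint X ∈ U) (c : k) :
    constK f c = X.presheaf.germ U _ h (f.appLE ⊤ U le_top ((Scheme.ΓSpecIso (CommRingCat.of k)).inv c)) := by
  show X.presheaf.germ ⊤ _ _ _ = _
  rw [Scheme.Hom.appLE, CommRingCat.comp_apply, TopCat.Presheaf.germ_res_apply]
  rfl

/-- The generic differentials of a variety with a smooth open subset. -/
theorem finrank_omega (n : ℕ) (U : X.Opens) (hU : genericPoint X ∈ U) [SmoothOfRelativeDimension n (U.ι ≫ f)]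
    [LocallyOfFiniteType f] :
    letI := (constK f).toAlgebra
    Module.Finite X.functionField Ω[X.functionField⁄k] ∧
      Module.finrank X.functionField Ω[X.functionField⁄k] = n ∧
      Algebra.EssFiniteType k X.functionField := by
  letI := (constK f).toAlgebra
  obtain ⟨T, hT, V', hV', hgV', e', hstd'⟩ :=
    SmoothOfRelativeDimension.exists_isStandardSmoothOfRelativeDimension (n := n) (f := U.ι ≫ f) ⟨genericPoint X, hU⟩
  obtain rfl : T = ⊤ := top_le_iff.1 fun y _ => by
    rw [Subsingleton.elim y ((U.ι ≫ f) ⟨genericPoint X, hU⟩)]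
    exact e' hgV'
  let V : X.affineOpens := ⟨U.ι ''ᵁ V', hV'.image_of_isOpenImmersion _⟩
  have hgV : genericPoint X ∈ V.1 := ⟨_, hgV', rfl⟩
  have hstd : (f.appLE ⊤ V.1 le_top).hom.IsStandardSmoothOfRelativeDimension n := by
    have h : f.appLE ⊤ V.1 le_top = (U.ι ≫ f).appLE ⊤ V' e' ≫ (U.ι.appIso V').inv := by
      rw [Iso.eq_comp_inv, Scheme.Hom.appIso_hom', Scheme.Hom.appLE_comp_appLE]
    rw [h]
    exact RingHom.isStandardSmoothOfRelativeDimension_respectsIso.left _
      (U.ι.appIso V').symm.commRingCatIsoToRingEquiv hstd'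
  let B := Γ(X, V.1)
  let k' := Γ(Spec (CommRingCat.of k), ⊤)
  let e₀ := (Scheme.ΓSpecIso (CommRingCat.of k)).inv
  letI : Algebra k' B := (f.appLE ⊤ V.1 le_top).hom.toAlgebra
  letI : Algebra k k' := e₀.hom.toAlgebra
  letI : Algebra k B := ((f.appLE ⊤ V.1 le_top).hom.comp e₀.hom).toAlgebra
  letI : Algebra B X.functionField := (X.presheaf.germ V.1 _ hgV).hom.toAlgebra
  haveI : IsScalarTower k k' B := IsScalarTower.of_algebraMap_eq fun _ => rfl
  haveI : IsScalarTower k B X.functionField := IsScalarTower.of_algebraMap_eq fun c => constK_eq f hgV c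
  haveI : Nonempty V.1 := ⟨⟨_, hgV⟩⟩
  haveI : IsFractionRing B X.functionField := functionField_isFractionRing_of_isAffineOpen X V.1 V.2
  have hs : Function.Surjective (algebraMap k k') := (ConcreteCategory.bijective_of_isIso e₀).2
  haveI : Algebra.FormallyEtale B X.functionField :=
    Algebra.FormallyEtale.of_isLocalization (nonZeroDivisors B)
  haveI : Algebra.FormallyUnramified k k' := Algebra.FormallyUnramified.of_surjective (Algebra.ofId k k') hs
  let m := KaehlerDifferential.map k k' B B
  have hm : Function.Bijective m := by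
    refine ⟨(injective_iff_map_eq_zero m).2 fun z hz => ?_, KaehlerDifferential.map_surjective k k' B⟩
    obtain ⟨w, rfl⟩ := (KaehlerDifferential.exact_mapBaseChange_map k k' B z).1 hz
    rw [Subsingleton.elim w 0, map_zero]
  haveI : Algebra.IsStandardSmoothOfRelativeDimension n k' B := hstd
  haveI : Algebra.IsStandardSmooth k' B := Algebra.IsStandardSmoothOfRelativeDimension.isStandardSmooth n
  have hr : Module.finrank B Ω[B⁄k'] = n := by
    simp [Module.finrank, Algebra.IsStandardSmoothOfRelativeDimension.rank_kaehlerDifferential (R := k') (S := B) n]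
  let bB : Basis (Fin n) B Ω[B⁄k] :=
    (Module.finBasisOfFinrankEq B Ω[B⁄k'] hr).map (LinearEquiv.ofBijective m hm).symm
  have hbc := KaehlerDifferential.isBaseChange_of_formallyEtale k B X.functionField
  let bK : Basis (Fin n) X.functionField Ω[X.functionField⁄k] :=
    (Algebra.TensorProduct.basis X.functionField bB).map hbc.equiv
  refine ⟨Module.Finite.of_basis bK, by rw [Module.finrank_eq_card_basis bK, Fintype.card_fin], ?_⟩
  haveI : Algebra.FiniteType k B :=
    (f.finiteType_appLE (isAffineOpen_top _) V.2 le_top).comp (RingHom.FiniteType.of_surjective _ hs)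
  haveI : Algebra.EssFiniteType B X.functionField :=
    Algebra.EssFiniteType.of_isLocalization X.functionField (nonZeroDivisors B)
  exact Algebra.EssFiniteType.comp k B X.functionField

variable {N : ℕ} (ι : X ⟶ CohB1.ProjSpace N k)

/-- The generic stalk value of the pullback of a linear form. -/
abbrev gform {a : MvPolynomial (Fin (N + 1)) k} (ha : a ∈ CohB1.polyGrading N k 1) :=
  ((Scheme.Modules.pullback ι).obj (Twist.twistProjSpace N k 1)).presheaf.germ ⊤ (genericPoint X) trivial
    (ProjUPX.pullG ι ha)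

theorem gform_eq {a t : MvPolynomial (Fin (N + 1)) k} (ha : a ∈ CohB1.polyGrading N k 1)
    (ht : t ∈ CohB1.polyGrading N k 1) {W : X.Opens}
    (h : W ≤ ι ⁻¹ᵁ Proj.basicOpen (CohB1.polyGrading N k) t) (hg : genericPoint X ∈ W) :
    gform ι ha = X.presheaf.germ W _ hg (ProjUPX.ratioOf ι ha ht h) • gform ι ht := by
  let M := (Scheme.Modules.pullback ι).obj (Twist.twistProjSpace N k 1)
  have e : ∀ x : Γ(M, ⊤), M.presheaf.germ W _ hg (AModX.res M (le_top : W ≤ ⊤) x) = M.presheaf.germ ⊤ _ trivial x :=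
    fun x => RefX.germ_res M le_top hg x
  show M.presheaf.germ ⊤ _ _ _ = _ • M.presheaf.germ ⊤ _ _ _
  rw [← e, ← e, ← QCoh.germ_smul']
  exact congrArg (M.presheaf.germ W _ hg) (ProjUPX.res_pullG ι ha ht h)

/-- Generic values of homogeneous coordinates. -/
theorem exists_rho [IsClosedImmersion ι] (hι : ι ≫ CohB1.ProjSpace.toSpec N k = f) :
    letI := (constK f).toAlgebra
    ∃ (ρ : MvPolynomial (Fin (N + 1)) k →ₐ[k] X.functionField) (j : Fin (N + 1)),
      ρ (MvPolynomial.X j) = 1 ∧
      (Submodule.span X.functionField (Set.range fun i =>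
        KaehlerDifferential.D k X.functionField (ρ (MvPolynomial.X i))) = ⊤) ∧
      Function.Bijective (fun c : X.functionField => c • gform ι (Groth.Agent.ProjPt.X_mem j)) ∧
      ∀ (a : MvPolynomial (Fin (N + 1)) k) (ha : a ∈ CohB1.polyGrading N k 1),
        gform ι ha = ρ a • gform ι (Groth.Agent.ProjPt.X_mem j) := by
  letI := (constK f).toAlgebra
  obtain ⟨j, hj⟩ := ProjUPX.cov_X (ι (genericPoint X))
  let D := Proj.basicOpen (CohB1.polyGrading N k) (MvPolynomial.X j)
  let W := ι ⁻¹ᵁ D
  have hgW : genericPoint X ∈ W := hj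
  have hWa : IsAffineOpen W := (Proj.isAffineOpen_basicOpen _ _ (Groth.Agent.ProjPt.X_mem j) one_pos).preimage ι
  let θ : Away (CohB1.polyGrading N k) (MvPolynomial.X j) →+* Γ(X, W) :=
    (ι.appLE D W le_rfl).hom.comp (Proj.awayToSection (CohB1.polyGrading N k) (MvPolynomial.X j)).hom
  let G : Γ(X, W) →+* X.functionField := (X.presheaf.germ W _ hgW).hom
  have hconst : ∀ c, G (θ (ZetaLib.base N k j c)) = constK f c := fun c => by
    rw [constK_eq f hgW]
    show G (ι.appLE D W le_rfl _) = _
    refine (congrArg (fun z => G (ι.appLE D W le_rfl z)) (CurveVA.toSpec_appLE_chart (n := N) (k := k) j c).symm).trans ?_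
    refine congrArg G ?_
    subst hι
    exact ConcreteCategory.congr_hom
      (Scheme.Hom.appLE_comp_appLE ι (CohB1.ProjSpace.toSpec N k) ⊤ D W le_top le_rfl)
      ((Scheme.ΓSpecIso (CommRingCat.of k)).inv c)
  let ρ : MvPolynomial (Fin (N + 1)) k →ₐ[k] X.functionField :=
    MvPolynomial.aeval fun l => G (θ (ZetaLib.coord N k j l))
  have hev : ∀ p, ρ p = G (θ (MvPolynomial.eval₂Hom (ZetaLib.base N k j) (fun l => ZetaLib.coord N k j l) p)) := by
    intro p
    induction p using MvPolynomial.induction_on with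
    | C c => rw [MvPolynomial.eval₂Hom_C, hconst, MvPolynomial.algHom_C]; rfl
    | add p q hp hq => rw [map_add, map_add, map_add, map_add, hp, hq]
    | mul_X p l hp => rw [map_mul, map_mul, map_mul, map_mul, hp, MvPolynomial.eval₂Hom_X', MvPolynomial.aeval_X]
  have hρ : ∀ (a : MvPolynomial (Fin (N + 1)) k) (ha : a ∈ CohB1.polyGrading N k 1),
      ρ a = G (ProjUPX.ratioOf ι ha (Groth.Agent.ProjPt.X_mem j) (le_refl W)) := fun a ha => by
    rw [hev]
    refine congrArg (fun z => G (θ z)) ?_
    have hh := ProjUPX.away_mk_eq_eval (𝒜 := CohB1.polyGrading N k) (T := fun i : Fin (N + 1) => MvPolynomial.X i)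
      (fun i => Groth.Agent.ProjPt.X_mem i) (Groth.Agent.ProjPt.X_mem j) 1 a
      ((MvPolynomial.mem_homogeneousSubmodule _ _).1 ha) (by rw [one_smul, MvPolynomial.aeval_X_left_apply]; exact ha)
    refine hh.symm.trans ?_
    congr 1
    exact MvPolynomial.aeval_X_left_apply a
  refine ⟨ρ, j, ?_, ?_, ?_, fun a ha => ?_⟩
  · rw [MvPolynomial.aeval_X]
    show G (θ (ZetaLib.coord N k j j)) = 1
    rw [H23.PnChart.coord_self, map_one, map_one]
  · rw [eq_top_iff, ← KaehlerDifferential.span_range_derivation k X.functionField, Submodule.span_le]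
    rintro _ ⟨z, rfl⟩
    set U := Submodule.span X.functionField (Set.range fun i =>
        KaehlerDifferential.D k X.functionField (ρ (MvPolynomial.X i)))
    have hpoly : ∀ p, KaehlerDifferential.D k X.functionField (ρ p) ∈ U := by
      intro p
      induction p using MvPolynomial.induction_on with
      | C c => rw [MvPolynomial.algHom_C, Derivation.map_algebraMap]; exact U.zero_mem
      | add p q hp hq => rw [map_add, map_add]; exact U.add_mem hp hq
      | mul_X p l hp =>
        rw [map_mul, Derivation.leibniz]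
        exact U.add_mem (U.smul_mem _ (Submodule.subset_span ⟨l, rfl⟩)) (U.smul_mem _ hp)
    have hsec : ∀ b : Γ(X, W), ∃ p, ρ p = G b := by
      intro b
      haveI : IsIso (Proj.awayToSection (CohB1.polyGrading N k) (MvPolynomial.X j)) :=
        inferInstanceAs (IsIso (Proj.basicOpenIsoAway (CohB1.polyGrading N k) (MvPolynomial.X j)
          (ZetaLib.X_mem_one N k j) Nat.one_pos).hom)
      obtain ⟨y, hy⟩ := ι.app_surjective D (Proj.isAffineOpen_basicOpen _ _ (Groth.Agent.ProjPt.X_mem j) one_pos) b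
      obtain ⟨z, rfl⟩ := (ConcreteCategory.bijective_of_isIso
        (Proj.awayToSection (CohB1.polyGrading N k) (MvPolynomial.X j))).2 y
      obtain ⟨q, rfl⟩ := H23.PnChart.fromChart_surjective.{u, u} N k j z
      have hb : θ (H23.PnChart.fromChart N k j q) = b := by
        show ι.appLE D W le_rfl _ = b
        rw [← hy, Scheme.Hom.app_eq_appLE]
        rfl
      refine ⟨MvPolynomial.rename (fun l => l.down.1) q, ?_⟩
      rw [hev, ← hb]
      refine congrArg (fun z => G (θ z)) ?_
      rw [MvPolynomial.eval₂Hom_rename]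
      rfl
    haveI : Nonempty W := ⟨⟨_, hgW⟩⟩
    letI : Algebra Γ(X, W) X.functionField := G.toAlgebra
    haveI : IsFractionRing Γ(X, W) X.functionField := functionField_isFractionRing_of_isAffineOpen X W hWa
    obtain ⟨a, b, hb, rfl⟩ := IsFractionRing.div_surjective Γ(X, W) z
    obtain ⟨p, hp⟩ := hsec a
    obtain ⟨q, hq⟩ := hsec b
    rw [show algebraMap Γ(X, W) X.functionField a = G a from rfl,
      show algebraMap Γ(X, W) X.functionField b = G b from rfl, ← hp, ← hq, div_eq_mul_inv, Derivation.leibniz,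
      Derivation.leibniz_inv]
    exact U.add_mem (U.smul_mem _ (U.smul_mem _ (hpoly q))) (U.smul_mem _ (hpoly p))
  · have hfr := ProjUPX.isFrame_pullG ι (Groth.Agent.ProjPt.X_mem (R := k) j)
    have := hfr.germ_bijective hgW
    rw [RefX.germ_res] at this
    exact this
  · rw [hρ a ha]
    exact gform_eq ι ha (Groth.Agent.ProjPt.X_mem j) le_rfl hgW

end Function

/-- A finite map between varieties of equal dimension is dominant. -/
theorem eq_genericPoint_of_finite {k : Type u} [Field k] {X P : Scheme.{u}} [IsIntegral X] [IsIntegral P]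
    (f : X ⟶ Spec (CommRingCat.of k)) [LocallyOfFiniteType f] {g : P ⟶ Spec (CommRingCat.of k)} [LocallyOfFiniteType g]
    (π : X ⟶ P) [IsFinite π] (hπ : π ≫ g = f) (n : ℕ) (hn : topologicalKrullDim X = n)
    (hP : topologicalKrullDim P ≤ n := by exact (S10829.result _ _).le) :
    π (genericPoint X) = genericPoint P := by
  have h1 := VarDim.topologicalKrullDim_eq_deg_genericPoint f (X := X)
  have h2 := VarDim.topologicalKrullDim_eq_deg_genericPoint g (X := P)
  rw [hn] at h1
  rw [h2] at hP
  have h3 : VarDim.deg f (genericPoint X) ≤ VarDim.deg g (π (genericPoint X)) := by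
    rw [VarDim.deg_eq_add π g hπ (genericPoint X), add_le_iff_nonpos_right]
    obtain ⟨z, hz⟩ : genericPoint X ∈ Set.range (π.fiberι (π (genericPoint X))) := by
      rw [Scheme.Hom.range_fiberι]; exact rfl
    refine le_of_eq ?_
    rw [← hz, ← VarDim.deg_fiber]
    exact (VarDim.closedPoint_iff_deg_eq_zero _ z).1 (isClosed_discrete _)
  refine (VarDim.eq_of_specializes_of_deg_le g
    ((genericPoint_spec P).specializes (Set.mem_univ (π (genericPoint X)))) ?_).symm
  have h4 : n = VarDim.deg f (genericPoint X) := by exact_mod_cast h1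
  have h5 : VarDim.deg g (genericPoint P) ≤ n := by exact_mod_cast hP
  omega

/-- **A finite separable projection** of a projective variety with a smooth open subset. -/
theorem exists_separable_finite {k : Type u} [Field k] [Infinite k] {X : Scheme.{u}} [IsIntegral X]
    (f : X ⟶ Spec (CommRingCat.of k)) (n : ℕ) (U : X.Opens) (hU : genericPoint X ∈ U)
    [SmoothOfRelativeDimension n (U.ι ≫ f)] {N : ℕ}
    (ι : X ⟶ CohB1.ProjSpace N k) [IsClosedImmersion ι] (hι : ι ≫ CohB1.ProjSpace.toSpec N k = f)
    (hn : topologicalKrullDim X = n) :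
    ∃ (_ : IsIntegral (CohB1.ProjSpace n k)) (π : X ⟶ CohB1.ProjSpace n k),
      π ≫ CohB1.ProjSpace.toSpec n k = f ∧ IsFinite π ∧
      ∃ hgen : π (genericPoint X) = genericPoint (CohB1.ProjSpace n k),
        letI := (toKK hgen).toAlgebra
        Algebra.IsSeparable (CohB1.ProjSpace n k).functionField X.functionField := by
  haveI := H23.PnChart.isIntegral_projSpace n k
  refine ⟨inferInstance, ?_⟩
  haveI := PnCoh.Chow.isProper_toSpec N k
  haveI := PnCoh.Chow.isProper_toSpec n k
  haveI : IsProper f := hι ▸ inferInstance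
  haveI : IsNoetherian X :=
    { __ := LocallyOfFiniteType.isLocallyNoetherian f
      __ := QuasiCompact.compactSpace_of_compactSpace f }

  letI := (constK f).toAlgebra
  obtain ⟨hfinΩ, hrank, hess⟩ := finrank_omega f n U hU
  haveI := hfinΩ
  obtain ⟨ρ, j, hρj, hρspan, hgj, hρ⟩ := exists_rho f ι hι
  have hne : ∀ l ∈ CohB1.polyGrading N k 1,
      ι (genericPoint X) ∈ Proj.basicOpen (CohB1.polyGrading N k) l → ρ l ≠ 0 := fun l hl hg h0 => by
    have hfr := (ProjUPX.isFrame_pullG ι hl).germ_bijective (show genericPoint X ∈ ι ⁻¹ᵁ _ from hg)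
    rw [RefX.germ_res] at hfr
    have : gform ι hl = 0 := by rw [hρ l hl, h0, zero_smul]
    exact one_ne_zero (hfr.1 (a₁ := (1 : X.presheaf.stalk (genericPoint X))) (a₂ := 0)
      (by show (1 : X.functionField) • gform ι hl = (0 : X.functionField) • gform ι hl; rw [this, smul_zero, smul_zero]))
  obtain ⟨l₀, l, hl₀, hl, hgen₀, hcov, hli⟩ := exists_forms ι n hn.le ρ ⟨j, hρj⟩ hρspan hne hrank
  let la : Fin (n + 1) → MvPolynomial (Fin (N + 1)) k := Fin.cons l₀ l
  have hla : ∀ i, la i ∈ CohB1.polyGrading N k 1 := Fin.cases hl₀ hl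
  let L := (Scheme.Modules.pullback ι).obj (Twist.twistProjSpace N k 1)
  have hN : PicF.IsInvertible (Twist.twistProjSpace N k 1) :=
    PnCoh.Finite.isInvertible_twist (fun j : ULift.{u} (Fin (N + 1)) => MvPolynomial.X j.down)
      (fun j => Groth.Agent.ProjPt.X_mem j.down) (top_le_iff.1 ((AmpleEmbed.iSup_basicOpen_X N k).ge.trans
        (iSup_le fun j => le_iSup_of_le (ULift.up j) le_rfl))) 1
  have hL : PicF.IsInvertible L := PicClLib.isInvertible_pullback ι hN
  let s : Fin (n + 1) → Γ(L, ⊤) := fun i => ProjUPX.pullG ι (hla i)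
  have hs : ProjUP.GeneratedBy L s := ProjUPX.generatedBy_of_frames s fun x => by
    rcases hcov x with h | ⟨i, hi⟩
    · exact ⟨0, _, h, ProjUPX.isFrame_pullG ι (hla 0)⟩
    · refine ⟨i.succ, ι ⁻¹ᵁ Proj.basicOpen (CohB1.polyGrading N k) (la i.succ), ?_, ProjUPX.isFrame_pullG ι (hla i.succ)⟩
      simpa [la] using hi
  obtain ⟨π, hπ, τ, hτ⟩ := S3572.result n f L hL s hs
  have hlocus : ∀ i, TrivBasic.locus (s i) = ι ⁻¹ᵁ Proj.basicOpen (CohB1.polyGrading N k) (la i) := fun i => by
    refine (TrivBasic.locus_pullElt hN ι _).trans ?_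
    congr 1
    exact AmpleX.genLocus_sec (CohB1.polyGrading N k) (fun j : Fin (N + 1) => MvPolynomial.X j)
      (fun j => Groth.Agent.ProjPt.X_mem j) (AmpleEmbed.iSup_basicOpen_X N k) (hla i)
  haveI : IsProper (π ≫ CohB1.ProjSpace.toSpec n k) := hπ ▸ ‹IsProper f›
  haveI : IsProper π := IsProper.of_comp π (CohB1.ProjSpace.toSpec n k)
  haveI : IsAffineHom π := isAffineHom_of_forall_exists_isAffineOpen π fun y => by
    obtain ⟨i, hi⟩ := ProjUPX.cov_X y
    refine ⟨_, hi, Proj.isAffineOpen_basicOpen _ _ (Groth.Agent.ProjPt.X_mem i) one_pos, ?_⟩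
    rw [AmpleEmbed.preimage_chart π τ i (hτ i), hlocus]
    exact (Proj.isAffineOpen_basicOpen _ _ (hla i) one_pos).preimage ι
  haveI hfin : IsFinite π := (IsFinite.iff_isProper_and_isAffineHom).2 ⟨inferInstance, inferInstance⟩
  haveI := CurveEmbed.smooth_toSpec n k
  haveI : IsLocallyNoetherian (CohB1.ProjSpace n k) :=
    LocallyOfFiniteType.isLocallyNoetherian (CohB1.ProjSpace.toSpec n k)
  have hgen : π (genericPoint X) = genericPoint (CohB1.ProjSpace n k) :=
    eq_genericPoint_of_finite f π hπ n hn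
  refine ⟨π, hπ, hfin, hgen, ?_⟩
  letI := (toKK hgen).toAlgebra
  let K₀ := (CohB1.ProjSpace n k).functionField
  let K := X.functionField
  letI : Algebra k K₀ := (constK (CohB1.ProjSpace.toSpec n k)).toAlgebra
  haveI : IsScalarTower k K₀ K := IsScalarTower.of_algebraMap_eq fun c => by
    show constK f c = toKK hgen (constK (CohB1.ProjSpace.toSpec n k) c)
    subst hπ
    exact (toKK_germ hgen (V := ⊤) trivial _).symm
  -- the ratios of the forms come from the base
  have hrat : ∀ i : Fin n, ∃ t : K₀, algebraMap K₀ K t = ρ (l i) / ρ l₀ := by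
    intro i
    let D₀ := Proj.basicOpen (CohB1.polyGrading n k) (MvPolynomial.X (0 : Fin (n + 1)))
    have hg0 : genericPoint X ∈ π ⁻¹ᵁ D₀ := by
      rw [AmpleEmbed.preimage_chart π τ 0 (hτ 0), hlocus]
      exact hgen₀
    have hgP : genericPoint (CohB1.ProjSpace n k) ∈ D₀ := hgen ▸ hg0
    let z := (Proj.awayToSection (CohB1.polyGrading n k) (MvPolynomial.X (0 : Fin (n + 1)))).hom
      (Away.mk (CohB1.polyGrading n k) (Groth.Agent.ProjPt.X_mem 0) 1 (MvPolynomial.X i.succ)
        (by rw [one_smul]; exact Groth.Agent.ProjPt.X_mem i.succ))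
    refine ⟨(CohB1.ProjSpace n k).presheaf.germ D₀ _ hgP z, ?_⟩
    show toKK hgen _ = _
    rw [toKK_germ hgen hgP]
    have hr : X.presheaf.germ (π ⁻¹ᵁ D₀) _ hg0 (π.app D₀ z) =
        X.presheaf.germ (π ⁻¹ᵁ D₀) _ hg0
          (ProjUPX.ratioOf π (Groth.Agent.ProjPt.X_mem i.succ) (Groth.Agent.ProjPt.X_mem (0 : Fin (n + 1))) le_rfl) := by
      rw [Scheme.Hom.app_eq_appLE]
      rfl
    refine hr.trans ?_
    let c : K := X.presheaf.germ (π ⁻¹ᵁ D₀) _ hg0
      (ProjUPX.ratioOf π (Groth.Agent.ProjPt.X_mem i.succ) (Groth.Agent.ProjPt.X_mem (0 : Fin (n + 1))) le_rfl)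
    have h1 : gform ι (hla i.succ) = c • gform ι (hla 0) := by
      let N₀ := (Scheme.Modules.pullback π).obj (Twist.twistProjSpace n k 1)
      have h2 := congrArg (fun x => L.presheaf.germ (π ⁻¹ᵁ D₀) _ hg0 (τ.hom.app (π ⁻¹ᵁ D₀) x))
        (ProjUPX.res_pullG π (Groth.Agent.ProjPt.X_mem (R := k) i.succ) (Groth.Agent.ProjPt.X_mem (0 : Fin (n + 1))) (le_refl (π ⁻¹ᵁ D₀)))
      simp only [Scheme.Modules.Hom.app_smul, QCoh.germ_smul'] at h2
      have e : ∀ (x : Γ(N₀, ⊤)), L.presheaf.germ (π ⁻¹ᵁ D₀) _ hg0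
          (τ.hom.app (π ⁻¹ᵁ D₀) (AModX.res N₀ (le_top : π ⁻¹ᵁ D₀ ≤ ⊤) x)) =
          L.presheaf.germ ⊤ _ trivial (τ.hom.app ⊤ x) := fun x => by
        rw [AModX.app_res, RefX.germ_res]
      erw [e, e] at h2
      exact ((congrArg (L.presheaf.germ ⊤ (genericPoint X) trivial) (hτ i.succ)).symm.trans h2).trans
        (congrArg (fun v => c • L.presheaf.germ ⊤ (genericPoint X) trivial v) (hτ 0))
    rw [hρ _ (hla i.succ), hρ _ (hla 0), smul_smul] at h1
    have h3 := hgj.1 h1
    show c = _
    rw [eq_div_iff (hne l₀ hl₀ hgen₀)]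
    simpa [la] using h3.symm
  choose t ht using hrat
  haveI : Algebra.FormallyUnramified K₀ K := by
    refine ⟨?_⟩
    refine subsingleton_of_forall_eq 0 fun w => ?_
    obtain ⟨v, rfl⟩ := KaehlerDifferential.map_surjective k K₀ K w
    have hspan := hli.span_eq_top_of_card_eq_finrank' (by rw [Fintype.card_fin, hrank])
    have hv : v ∈ Submodule.span K (Set.range fun i => KaehlerDifferential.D k K (ρ (l i) / ρ l₀)) := by
      rw [hspan]; trivial
    induction hv using Submodule.span_induction with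
    | mem _ h =>
      obtain ⟨i, rfl⟩ := h
      rw [KaehlerDifferential.map_D, ← ht i]
      exact Derivation.map_algebraMap _ _
    | zero => exact map_zero _
    | add a b _ _ ha hb => rw [map_add, ha, hb, add_zero]
    | smul a v _ hv => rw [map_smul, hv, smul_zero]
  haveI : Algebra.EssFiniteType K₀ K := Algebra.EssFiniteType.of_comp k K₀ K
  exact Algebra.FormallyUnramified.isSeparable K₀ K

/-- **A finite flat separable projection** of a smooth projective variety. -/
theorem exists_separable_projection {k : Type u} [Field k] [Infinite k] {X : Scheme.{u}} [IsIntegral X]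
    (f : X ⟶ Spec (CommRingCat.of k)) (n : ℕ) [SmoothOfRelativeDimension n f] {N : ℕ}
    (ι : X ⟶ CohB1.ProjSpace N k) [IsClosedImmersion ι] (hι : ι ≫ CohB1.ProjSpace.toSpec N k = f)
    (hn : topologicalKrullDim X = n) :
    ∃ (_ : IsIntegral (CohB1.ProjSpace n k)) (π : X ⟶ CohB1.ProjSpace n k),
      π ≫ CohB1.ProjSpace.toSpec n k = f ∧ IsFinite π ∧ Flat π ∧
      ∃ hgen : π (genericPoint X) = genericPoint (CohB1.ProjSpace n k),
        letI := (toKK hgen).toAlgebra
        Algebra.IsSeparable (CohB1.ProjSpace n k).functionField X.functionField := by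
  haveI : SmoothOfRelativeDimension n ((⊤ : X.Opens).ι ≫ f) := by
    have h := (inferInstance : SmoothOfRelativeDimension (0 + n) ((⊤ : X.Opens).ι ≫ f))
    rwa [zero_add] at h
  haveI := PnCoh.Chow.isProper_toSpec N k
  haveI : IsProper f := hι ▸ inferInstance
  haveI : Smooth f := SmoothOfRelativeDimension.smooth n f
  obtain ⟨hI, π, hπ, hfin, hgen, hsep⟩ := exists_separable_finite f n ⊤ trivial ι hι hn
  haveI := hfin
  haveI := CurveEmbed.smooth_toSpec n k
  haveI := PnCoh.Chow.isProper_toSpec n k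
  exact ⟨hI, π, hπ, hfin, SerreVan45.flat_of_finite f (CohB1.ProjSpace.toSpec n k) π n hn (S10829.result k n),
    hgen, hsep⟩

end Groth.Agent.OmegaTop
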