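import Groth.Agent.OmegaTop.Duality
import Groth.Agent.OmegaUniv.Restrict
import Groth.Agent.ParaFX.Closed
import Groth.Agent.ParaFX.Ufd
import Groth.Agent.H23.HartogsLine
import Groth.Agent.SmoothReg.Scheme

/-!
# The dualizing module of a projective variety with finitely many singular points

It is the direct image of the top forms of the smooth part.
-/

set_option autoImplicit false
set_option linter.style.haveILetI false
set_option linter.unusedSectionVars false
set_option backward.isDefEq.respectTransparency false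
set_option backward.isDefEq.respectTransparency.types false

universe u

open CategoryTheory CategoryTheory.Limits AlgebraicGeometry Opposite TopologicalSpace

noncomputable section

namespace Groth.Agent.OmegaTop

section Gen

variable {X P : Scheme.{u}} (π : X ⟶ P) [IsAffineHom π] (P₀ : P.Opens)

/-- Pushing forward from the preimage of an open. -/
def pushOpenIso : Scheme.Modules.pushforward (π ⁻¹ᵁ P₀).ι ⋙ Scheme.Modules.pushforward π ≅
    Scheme.Modules.pushforward (π ∣_ P₀) ⋙ Scheme.Modules.pushforward P₀.ι :=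
  Scheme.Modules.pushforwardComp _ _ ≪≫ Scheme.Modules.pushforwardCongr (morphismRestrict_ι π P₀).symm ≪≫
    (Scheme.Modules.pushforwardComp _ _).symm

/-- The transpose of the comparison. -/
def restrictPush (F : X.Modules) : ((Scheme.Modules.pushforward π).obj F).restrict P₀.ι ⟶
    (Scheme.Modules.pushforward (π ∣_ P₀)).obj (F.restrict (π ⁻¹ᵁ P₀).ι) :=
  ((Scheme.Modules.restrictAdjunction P₀.ι).homEquiv _ _).symm
    ((Scheme.Modules.pushforward π).map ((Scheme.Modules.restrictAdjunction (π ⁻¹ᵁ P₀).ι).unit.app F) ≫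
      (pushOpenIso π P₀).hom.app (F.restrict (π ⁻¹ᵁ P₀).ι))

instance isIso_restrictPush (F : X.Modules) : IsIso (restrictPush π P₀ F) := by
  have h1 : IsIso ((Scheme.Modules.restrictFunctor P₀.ι).map
      ((Scheme.Modules.pushforward π).map ((Scheme.Modules.restrictAdjunction (π ⁻¹ᵁ P₀).ι).unit.app F))) := by
    rw [Scheme.Modules.Hom.isIso_iff_isIso_app]
    intro O
    show IsIso (((Scheme.Modules.restrictAdjunction (π ⁻¹ᵁ P₀).ι).unit.app F).app (π ⁻¹ᵁ P₀.ι ''ᵁ O))
    rw [Scheme.Modules.restrictAdjunction_unit_app_app]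
    refine ParaFX.isIso_map_of_eq F _ ?_
    rw [Scheme.Hom.image_preimage_eq_opensRange_inf, Scheme.Opens.opensRange_ι, inf_eq_right]
    intro x hx
    obtain ⟨z, -, hz⟩ := hx
    show π x ∈ P₀
    rw [← hz]
    exact z.2
  rw [restrictPush, Adjunction.homEquiv_counit, Functor.map_comp]
  infer_instance

instance isAffineHom_restrict' : IsAffineHom (π ∣_ P₀) :=
  MorphismProperty.of_isPullback (P := @IsAffineHom) (isPullback_morphismRestrict π P₀).flip ‹_›

variable {ω : P.Modules} {W₀ : (π ⁻¹ᵁ P₀).toScheme.Modules}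

/-- A perfect trace on an open, with `ω` determined by the open, gives the adjoint of direct image. -/
theorem bijective_pushComp_open [IsIso ((Scheme.Modules.restrictAdjunction P₀.ι).unit.app ω)]
    (T₀ : (Scheme.Modules.pushforward (π ∣_ P₀)).obj W₀ ⟶ ω.restrict P₀.ι)
    (hcov : ∀ (y : P₀.toScheme) (U : P₀.toScheme.Opens), y ∈ U → ∃ V, y ∈ V ∧ V ≤ U ∧ Perfect (π ∣_ P₀) T₀ V)
    {F : X.Modules} (hF : Coh.IsQCoh F) :
    Function.Bijective fun φ : F ⟶ (Scheme.Modules.pushforward (π ⁻¹ᵁ P₀).ι).obj W₀ =>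
      (Scheme.Modules.pushforward π).map φ ≫ ((pushOpenIso π P₀).hom.app W₀ ≫
        (Scheme.Modules.pushforward P₀.ι).map T₀ ≫ inv ((Scheme.Modules.restrictAdjunction P₀.ι).unit.app ω)) := by
  let adjX := Scheme.Modules.restrictAdjunction (π ⁻¹ᵁ P₀).ι
  let adjP := Scheme.Modules.restrictAdjunction P₀.ι
  have h := (asIso (adjP.unit.app ω)).symm.homToEquiv.bijective.comp ((adjP.homEquiv _ _).bijective.comp
    ((asIso (restrictPush π P₀ F)).homFromEquiv.symm.bijective.comp
      ((bijective_pushComp (π ∣_ P₀) T₀ (QCoh.isQCoh_restrict (π ⁻¹ᵁ P₀).ι hF) hcov).comp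
        (adjX.homEquiv F W₀).symm.bijective)))
  refine (congrArg Function.Bijective (funext fun φ => ?_)).mp h
  show adjP.homEquiv _ _ (restrictPush π P₀ F ≫ (Scheme.Modules.pushforward (π ∣_ P₀)).map
    ((adjX.homEquiv F W₀).symm φ) ≫ T₀) ≫ inv (adjP.unit.app ω) = _
  conv_rhs => rw [← (adjX.homEquiv F W₀).apply_symm_apply φ]
  rw [Adjunction.homEquiv_naturality_right, restrictPush, Equiv.apply_symm_apply, Adjunction.homEquiv_unit,
    Functor.map_comp, Functor.map_comp]
  simp only [Category.assoc]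
  congr 1
  exact ((pushOpenIso π P₀).hom.naturality_assoc ((adjX.homEquiv F W₀).symm φ) _).symm

end Gen

variable {k : Type u} [Field k]

/-- An open subscheme has the same function field. -/
theorem bijective_toKK_of_isOpenImmersion {X P : Scheme.{u}} [IsIntegral X] [IsIntegral P] (j : X ⟶ P)
    [IsOpenImmersion j] (e : j (genericPoint X) = genericPoint P) : Function.Bijective (toKK e) :=
  ConcreteCategory.bijective_of_isIso
    ((P.presheaf.stalkCongr (Inseparable.of_eq e)).inv ≫ j.stalkMap (genericPoint X))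

/-- Separability of function fields restricts to opens. -/
theorem isSeparable_morphismRestrict {X P : Scheme.{u}} [IsIntegral X] [IsIntegral P] (π : X ⟶ P) (P₀ : P.Opens)
    [IsIntegral (P₀ : Scheme.{u})] [IsIntegral ((π ⁻¹ᵁ P₀ : X.Opens) : Scheme.{u})]
    (hgen : π (genericPoint X) = genericPoint P)
    (hgen' : (π ∣_ P₀) (genericPoint ((π ⁻¹ᵁ P₀ : X.Opens) : Scheme.{u})) = genericPoint (P₀ : Scheme.{u}))
    (hsep : letI := (toKK hgen).toAlgebra; Algebra.IsSeparable P.functionField X.functionField) :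
    letI := (toKK hgen').toAlgebra
    Algebra.IsSeparable (P₀ : Scheme.{u}).functionField ((π ⁻¹ᵁ P₀ : X.Opens) : Scheme.{u}).functionField := by
  let V : X.Opens := π ⁻¹ᵁ P₀
  letI := (toKK hgen).toAlgebra
  letI := (toKK hgen').toAlgebra
  haveI := hsep
  have eP := genericPoint_eq_of_isOpenImmersion P₀.ι
  have eV := genericPoint_eq_of_isOpenImmersion V.ι
  refine Algebra.IsSeparable.of_equiv_equiv (RingEquiv.ofBijective (toKK eP) (bijective_toKK_of_isOpenImmersion _ eP))
    (RingEquiv.ofBijective (toKK eV) (bijective_toKK_of_isOpenImmersion _ eV)) (RingHom.ext fun r => ?_)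
  obtain ⟨D, hD, a, rfl⟩ := P.presheaf.exists_germ_eq r
  show toKK hgen' (toKK eP (P.presheaf.germ D _ hD a)) = toKK eV (toKK hgen (P.presheaf.germ D _ hD a))
  rw [toKK_germ eP hD, toKK_germ hgen' (mem_preimage eP hD), toKK_germ hgen hD,
    toKK_germ eV (mem_preimage hgen hD)]
  have h := Scheme.Hom.congr_app (morphismRestrict_ι π P₀) D
  simp only [Scheme.Hom.comp_app] at h
  show (V : Scheme.{u}).presheaf.germ _ _ _ ((P₀.ι.app D ≫ (π ∣_ P₀).app (P₀.ι ⁻¹ᵁ D)) a) = _
  rw [h]
  simp only [CommRingCat.comp_apply]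
  exact TopCat.Presheaf.germ_res_apply _ _ _ _ _

/-- Finite closed sets consist of closed points. -/
theorem isClosed_singleton_of_finite {X : Scheme.{u}} (f : X ⟶ Spec (CommRingCat.of k)) [LocallyOfFiniteType f]
    {S : Set X} (hS : IsClosed S) (hfin : S.Finite) {x : X} (hx : x ∈ S) : IsClosed ({x} : Set X) := by
  obtain ⟨c, hxc, hc⟩ := VarDim.exists_closed_specialization f x
  by_contra hne
  have hJ : JacobsonSpace X := LocallyOfFiniteType.jacobsonSpace f
  have h2 : (closure {x} ∩ closedPoints X).Finite :=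
    hfin.subset fun z hz => hS.closure_subset_iff.2 (Set.singleton_subset_iff.2 hx) hz.1
  have h3 : IsClosed (closure {x} ∩ closedPoints X) := by
    have : IsClosed (⋃ z ∈ closure {x} ∩ closedPoints X, ({z} : Set X)) :=
      h2.isClosed_biUnion fun z hz => hz.2
    convert this using 1
    ext z; simp
  have h4 := h3.closure_eq
  rw [JacobsonSpace.closure_inter_closedPoints isClosed_closure] at h4
  exact hne ((h4 ▸ subset_closure rfl : x ∈ closure {x} ∩ closedPoints X).2)

/-- Closed points have stalks of full dimension. -/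
theorem two_le_ringKrullDim_stalk {X : Scheme.{u}} [IsIntegral X] (f : X ⟶ Spec (CommRingCat.of k))
    [LocallyOfFiniteType f] (n : ℕ) (hn2 : 2 ≤ n) (hn : topologicalKrullDim X = n) {x : X}
    (hx : IsClosed ({x} : Set X)) : (2 : WithBot ℕ∞) ≤ ringKrullDim (X.presheaf.stalk x) := by
  obtain ⟨b, hb, -, hle⟩ := VarDim.exists_deg_add_stalk f x
  have h1 := hle _ (genericPoint_specializes x)
  rw [(VarDim.closedPoint_iff_deg_eq_zero f x).1 hx, zero_add] at h1
  rw [VarDim.topologicalKrullDim_eq_deg_genericPoint f] at hn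
  have h2 : VarDim.deg f (genericPoint X) = n := by exact_mod_cast hn
  rw [hb]
  exact_mod_cast (by omega : 2 ≤ b)

/-- Depth at closed points of a smooth variety of dimension at least two. -/
theorem two_le_depth {X : Scheme.{u}} [IsIntegral X] (f : X ⟶ Spec (CommRingCat.of k))
    [Smooth f] (n : ℕ) (hn2 : 2 ≤ n) (hn : topologicalKrullDim X = n) {x : X}
    (hx : IsClosed ({x} : Set X)) : (2 : ℕ∞) ≤ LocCoh.depth (X.presheaf.stalk x) (X.presheaf.stalk x) := by
  haveI : IsLocallyNoetherian X := LocallyOfFiniteType.isLocallyNoetherian f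
  haveI := SmoothReg.isRegularLocalRing_stalk_of_mem_smoothLocus f (x := x) (by rw [f.smoothLocus_eq_top]; trivial)
  haveI := RegLoc6.isDomain_of_isRegularLocalRing (X.presheaf.stalk x)
  haveI := RegLoc6.isIntegrallyClosed_of_isRegularLocalRing (X.presheaf.stalk x)
  exact ParaFX.two_le_depth_of_normal _ (two_le_ringKrullDim_stalk f n hn2 hn hx)

/-- Invertible modules are determined off a closed set of depth two. -/
theorem isIso_unit_restrict {X : Scheme.{u}} [IsLocallyNoetherian X] {L : X.Modules} (hL : PicF.IsInvertible L)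
    (U : X.Opens) (hU : ∀ x : X, x ∉ U → (2 : ℕ∞) ≤ LocCoh.depth (X.presheaf.stalk x) (X.presheaf.stalk x))
    {V : Scheme.{u}} (j : V ⟶ X) [IsOpenImmersion j] (hj : j.opensRange = U) : ParaFX.SectBij j L := by
  intro O O' h hO'
  subst hj
  subst hO'
  rw [CategoryTheory.ConcreteCategory.isIso_iff_bijective]
  exact H23.HartogsLine.res_bijective hU hL O

/-- The dualizing module is pushed forward from the smooth part. -/
theorem exists_isRDualOver_pushforward [Infinite k] {X : Scheme.{u}} [X.Over (Spec (CommRingCat.of k))] [IsIntegral X]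
    (n : ℕ) (hn2 : 2 ≤ n) (hn : topologicalKrullDim X = n) {N : ℕ}
    (ι : X ⟶ CohB1.ProjSpace N k) [IsClosedImmersion ι]
    (hι : ι ≫ CohB1.ProjSpace.toSpec N k = X ↘ Spec (CommRingCat.of k))
    (U : X.Opens) (hU : ((U : Set X)ᶜ).Finite) [SmoothOfRelativeDimension n (U.ι ≫ (X ↘ Spec (CommRingCat.of k)))]
    (W : (U : Scheme.{u}).Modules)
    (hW : ExtPow.IsExtPow n (Omega.sheaf (U.ι ≫ (X ↘ Spec (CommRingCat.of k)))) W) :
    ∃ (V : X.Opens) (hVU : V ≤ U), (∀ x : (U : Scheme.{u}), U.ι x ∉ V → IsClosed ({x} : Set (U : Scheme.{u}))) ∧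
      ∃ tr, Canon.IsRDualOver k X n ((Scheme.Modules.pushforward V.ι).obj (W.restrict (X.homOfLE hVU))) tr := by
  let f := X ↘ Spec (CommRingCat.of k)
  haveI := PnCoh.Chow.isProper_toSpec N k
  haveI := PnCoh.Chow.isProper_toSpec n k
  haveI : IsProper f := by show IsProper (X ↘ _); rw [← hι]; infer_instance
  haveI : IsNoetherian X :=
    { __ := LocallyOfFiniteType.isLocallyNoetherian f
      __ := QuasiCompact.compactSpace_of_compactSpace f }
  have hgenU : genericPoint X ∈ U := by
    by_contra h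
    have h0 := (VarDim.closedPoint_iff_deg_eq_zero f _).1
      (isClosed_singleton_of_finite f U.2.isClosed_compl hU h)
    rw [VarDim.topologicalKrullDim_eq_deg_genericPoint f, h0] at hn
    have : (0 : ℕ) = n := by exact_mod_cast hn
    omega
  obtain ⟨hI, π, hπ, hfin, hgen, hsep⟩ := exists_separable_finite f n U hgenU ι hι hn
  haveI := hI
  haveI := hfin
  haveI := LefPenLib.smoothOfRelativeDimension_projSpace (k := k) (m := n)
  haveI : Smooth (CohB1.ProjSpace.toSpec n k) := SmoothOfRelativeDimension.smooth n _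
  haveI : IsLocallyNoetherian (CohB1.ProjSpace n k) :=
    LocallyOfFiniteType.isLocallyNoetherian (CohB1.ProjSpace.toSpec n k)
  let P₀ : (CohB1.ProjSpace n k).Opens :=
    ⟨(π '' (U : Set X)ᶜ)ᶜ, (π.isClosedMap _ U.2.isClosed_compl).isOpen_compl⟩
  let V := π ⁻¹ᵁ P₀
  have hVU : V ≤ U := fun x hx => by
    by_contra h
    exact hx ⟨x, h, rfl⟩
  have hbad : ∀ y, y ∉ P₀ → IsClosed ({y} : Set ↥(CohB1.ProjSpace n k)) := fun y hy =>
    isClosed_singleton_of_finite (CohB1.ProjSpace.toSpec n k) P₀.2.isClosed_compl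
      ((hU.image π).subset fun z hz => not_not.1 hz) hy
  have hgenP : genericPoint (CohB1.ProjSpace n k) ∈ P₀ := by
    by_contra h
    have h0 := (VarDim.closedPoint_iff_deg_eq_zero (CohB1.ProjSpace.toSpec n k) _).1 (hbad _ h)
    have h1 := S10829.result k n
    rw [VarDim.topologicalKrullDim_eq_deg_genericPoint (CohB1.ProjSpace.toSpec n k), h0] at h1
    have : (0 : ℕ) = n := by exact_mod_cast h1
    omega
  have hgenV : genericPoint X ∈ V := show π (genericPoint X) ∈ P₀ from hgen ▸ hgenP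
  haveI : Nonempty (P₀ : Scheme.{u}) := ⟨⟨_, hgenP⟩⟩
  haveI : IsIntegral (P₀ : Scheme.{u}) := isIntegral_of_isOpenImmersion P₀.ι
  haveI : Nonempty (V : Scheme.{u}) := ⟨⟨_, hgenV⟩⟩
  haveI : IsIntegral (V : Scheme.{u}) := isIntegral_of_isOpenImmersion V.ι
  let j := X.homOfLE hVU
  let fV := V.ι ≫ f
  let fP := P₀.ι ≫ CohB1.ProjSpace.toSpec n k
  haveI hSV : SmoothOfRelativeDimension n fV := by
    have h := (inferInstance : SmoothOfRelativeDimension (0 + n) (j ≫ U.ι ≫ f))
    rw [zero_add, X.homOfLE_ι_assoc] at h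
    exact h
  haveI hSP : SmoothOfRelativeDimension n fP := by
    have h := (inferInstance : SmoothOfRelativeDimension (0 + n) (P₀.ι ≫ CohB1.ProjSpace.toSpec n k))
    rwa [zero_add] at h
  haveI : Smooth fV := SmoothOfRelativeDimension.smooth n fV
  haveI : Smooth fP := SmoothOfRelativeDimension.smooth n fP
  haveI : IsFinite (π ∣_ P₀) := MorphismProperty.of_isPullback (isPullback_morphismRestrict π P₀).flip hfin
  have hπ' : (π ∣_ P₀) ≫ fP = fV := by rw [morphismRestrict_ι_assoc, hπ]
  haveI : QuasiCompact fV := inferInstance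
  haveI : Flat (π ∣_ P₀) := SerreVan45.flat_of_finite fV fP (π ∣_ P₀) n
    (HodgeLef45.dim_eq fV n) (HodgeLef45.dim_eq fP n)
  have hgen' : (π ∣_ P₀) (genericPoint (V : Scheme.{u})) = genericPoint (P₀ : Scheme.{u}) :=
    eq_genericPoint_of_finite fV (π ∣_ P₀) hπ' n (HodgeLef45.dim_eq fV n) (HodgeLef45.dim_eq fP n).le
  have hsep' : letI := (toKK hgen').toAlgebra
      Algebra.IsSeparable (P₀ : Scheme.{u}).functionField (V : Scheme.{u}).functionField :=
    isSeparable_morphismRestrict π P₀ hgen hgen' hsep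
  let ω := Twist.twistProjSpace n k (-((n : ℤ) + 1))
  have hωi : PicF.IsInvertible ω :=
    PnCoh.Finite.isInvertible_twist (fun j : ULift.{u} (Fin (n + 1)) => MvPolynomial.X j.down)
      (fun j => Groth.Agent.ProjPt.X_mem j.down) (top_le_iff.1 ((AmpleEmbed.iSup_basicOpen_X n k).ge.trans
        (iSup_le fun j => le_iSup_of_le (ULift.up j) le_rfl))) _
  have hext : ∀ {Y Y' : Scheme.{u}} (g : Y' ⟶ Y) [IsOpenImmersion g] (p : Y ⟶ Spec (CommRingCat.of k))
      (p' : Y' ⟶ Spec (CommRingCat.of k)) [QuasiSeparated p] [QuasiSeparated p'] [SmoothOfRelativeDimension n p]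
      (_ : p' = g ≫ p) {M : Y.Modules}, ExtPow.IsExtPow n (Omega.sheaf p) M →
        ExtPow.IsExtPow n (Omega.sheaf p') (M.restrict g) := by
    intro Y Y' g _ p p' _ _ _ hp M hM
    haveI := OmegaUniv.isIso_ε p p' g (𝟙 _) ((Category.comp_id p').trans hp)
    exact ExtPowBC.isExtPow_iso_right
      (((Scheme.Modules.restrictFunctorIsoPullback g).app (Omega.sheaf p)).symm ≪≫
        (asIso (OmegaUniv.ε p p' g (𝟙 _) ((Category.comp_id p').trans hp))).symm)
      (ExtPowBC.isExtPow_iso_left ((Scheme.Modules.restrictFunctorIsoPullback g).app M).symm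
        (ExtPowBC.isExtPow_pullback g (CanonDual.isFinLocFreeOfRank_omega p n).2 hM))
  haveI : QuasiSeparated (U.ι ≫ f) := inferInstance
  have hWV : ExtPow.IsExtPow n (Omega.sheaf fV) (W.restrict j) :=
    hext j (U.ι ≫ f) fV (X.homOfLE_ι_assoc hVU f).symm hW
  obtain ⟨ω₀, hω₀⟩ := DRHyp.ExtSheaf.exists_isExtPow
    (CanonDual.isFinLocFreeOfRank_omega (CohB1.ProjSpace.toSpec n k) n).2 n
  obtain ⟨e⟩ := nonempty_iso_topForms n hω₀
  have hωP : ExtPow.IsExtPow n (Omega.sheaf fP) (ω.restrict P₀.ι) :=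
    hext P₀.ι (CohB1.ProjSpace.toSpec n k) fP rfl (ExtPowBC.isExtPow_iso_left e hω₀)
  obtain ⟨T₀, hT⟩ := exists_trace (fX := fV) (fP := fP) (π := π ∣_ P₀) hπ' hgen' hsep' hWV hωP
  haveI : IsIso ((Scheme.Modules.restrictAdjunction P₀.ι).unit.app ω) :=
    (ParaFX.sectBij_iff_isIso_unit P₀.ι ω).1 (isIso_unit_restrict hωi P₀
      (fun y hy => two_le_depth (CohB1.ProjSpace.toSpec n k) n hn2 (S10829.result k n) (hbad y hy))
      P₀.ι (Scheme.Opens.opensRange_ι P₀))
  have hcov : ∀ (y : P₀.toScheme) (O : P₀.toScheme.Opens), y ∈ O → ∃ O', y ∈ O' ∧ O' ≤ O ∧ Perfect (π ∣_ P₀) T₀ O' :=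
    fun y O hy => by
      obtain ⟨C, hyC, hCO⟩ := exists_chart fV fP (π ∣_ P₀) n hy
      exact ⟨C.V, hyC, hCO, C.hV, hT C⟩
  refine ⟨V, hVU, fun x hx => ?_, ?_⟩
  · have hfib : IsClosed ({U.ι x} : Set X) :=
      isClosed_singleton_of_finite f ((hbad _ hx).preimage π.continuous) (π.finite_preimage_singleton _) rfl
    have : ({x} : Set (U : Scheme.{u})) = U.ι ⁻¹' {U.ι x} := by
      ext z
      exact ⟨fun h => congrArg U.ι h, fun h => U.ι.isOpenEmbedding.injective h⟩
    rw [this]
    exact hfib.preimage U.ι.continuous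
  · obtain ⟨t⟩ := PnDual.exists_trace' (m := n) (R := k) (b := -((n : ℤ) + 1)) rfl
    haveI : QuasiCompact V.ι := inferInstance
    exact CanonDual.exists_isRDualOver_of_finite π hπ n ω t.toLinearMap
      ⟨PnDual.isQCoh_O' (ι := Fin (n + 1)) (R := k) (-((n : ℤ) + 1)),
        fun F hF => PnDual.bijective_dualityMap_qcoh rfl t hF⟩
      _ (QCoh.isQCoh_pushforward V.ι (ProjUPX.isQCoh_of_isInvertible
        (CanonDual.isInvertible_of_isTopDiff fV n hWV))) _
      fun F hF => bijective_pushComp_open π P₀ T₀ hcov hF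

end Groth.Agent.OmegaTop
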