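import Groth.Agent.OmegaTop.Kappa
import Groth.Agent.GrpSchLib.Syntomic
import Groth.Agent.S9729
import Groth.Agent.Synt29.Mor
import Groth.Agent.Synt29.KoszulSyntomic
import Groth.Agent.InvX.Tensor
import Groth.Agent.QCoh.Stalk
import Groth.Agent.RefX.Hom
import Groth.Agent.DRHyp.ExtSheaf

/-!
# The trace of top forms of a finite flat separable map of smooth varieties
-/

set_option autoImplicit false
set_option linter.style.haveILetI false
set_option linter.unusedSectionVars false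
set_option backward.isDefEq.respectTransparency false
set_option backward.isDefEq.respectTransparency.types false

universe u

open CategoryTheory CategoryTheory.Limits AlgebraicGeometry Opposite TopologicalSpace Module exteriorPower
open Groth.Agent.LogModGeo (rs rf rs_rs rf_rf rs_refl rf_refl rs_smul app_rs eq_of_locally exists_glue
  exists_affine_nhd exists_hom_of_rel)

noncomputable section

namespace Groth.Agent.OmegaTop

/-- The top wedge is the determinant times the wedge of a basis. -/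
theorem ιMulti_eq_det {R M : Type u} [CommRing R] [AddCommGroup M] [Module R M] {n : ℕ}
    (b : Basis (Fin n) R M) (v : Fin n → M) :
    ιMulti R n v = (Matrix.of fun i j => b.repr (v i) j).det • ιMulti R n b := by
  classical
  have h : ιMulti R n (M := M) =
      (LinearMap.toSpanSingleton R _ (ιMulti R n b)).compAlternatingMap b.det := by
    refine b.ext_alternating fun w hw => ?_
    let σ : Equiv.Perm (Fin n) := Equiv.ofBijective w ⟨hw, Finite.surjective_of_injective hw⟩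
    show ιMulti R n (⇑b ∘ σ) = b.det (⇑b ∘ σ) • ιMulti R n b
    rw [AlternatingMap.map_perm, AlternatingMap.map_perm, Basis.det_self]
    rcases Int.units_eq_one_or (Equiv.Perm.sign σ) with h | h <;> rw [h]
    · rw [one_smul, one_smul, one_smul]
    · rw [Units.neg_smul, Units.neg_smul, one_smul, one_smul]
      exact (neg_one_smul R _).symm
  conv_lhs => rw [h]
  show b.det v • ιMulti R n b = _
  rw [Basis.det_apply, ← Matrix.det_transpose]
  rfl

/-- A wedge of a basis generates the sections of a top exterior power. -/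
theorem exists_smul_wedge {R M N : Type u} [CommRing R] [AddCommGroup M] [Module R M] [AddCommGroup N]
    [Module R N] {n : ℕ} (φ : N ≃ₗ[R] ↥(⋀[R]^n M)) (b : Basis (Fin n) R M) (z : N) :
    ∃ r : R, z = r • φ.symm (ιMulti R n b) := by
  obtain ⟨w, rfl⟩ := φ.symm.surjective z
  induction w using DRHyp.Wedge.induct with
  | h0 => exact ⟨0, by simp⟩
  | hadd a c ha hc =>
    obtain ⟨r, hr⟩ := ha
    obtain ⟨s, hs⟩ := hc
    exact ⟨r + s, by rw [map_add, hr, hs, add_smul]⟩
  | hgen a v =>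
    exact ⟨a * (Matrix.of fun i j => b.repr (v i) j).det, by rw [ιMulti_eq_det b v, smul_smul, map_smul]⟩

variable {X P S : Scheme.{u}}

/-- A generator of the sections over an affine open is a basis of the generic stalk of an invertible module. -/
theorem generic_basis [IsIntegral X] {M : X.Modules} (hM : PicF.IsInvertible M) {V : X.Opens}
    (hV : IsAffineOpen V) (hg : genericPoint X ∈ V) (e : Γ(M, V)) (he : ∀ z, ∃ r : Γ(X, V), z = r • e) :
    Function.Bijective fun c : X.functionField => c • M.presheaf.germ V (genericPoint X) hg e := by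
  let G := M.presheaf.germ V (genericPoint X) hg e
  obtain ⟨U, hU, f, hf⟩ := InvX.exists_frame hM (genericPoint X)
  have hbij := hf.germ_bijective hU
  have hsurj : ∀ v : M.presheaf.stalk (genericPoint X), ∃ c : X.functionField, c • G = v := by
    intro v
    letI := QCoh.stalkModule M hg
    haveI := QCoh.isLocalizedModule_germLin (QCoh.isQCoh_of_isFinLocFree (H23.PullPush.isFinLocFree_of_isInvertible hM)) hV hg
    obtain ⟨⟨z, t⟩, hzt⟩ := IsLocalizedModule.surj
      (hV.primeIdealOf ⟨genericPoint X, hg⟩).asIdeal.primeCompl (QCoh.germLin M hg) v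
    obtain ⟨r, rfl⟩ := he z
    letI := QCoh.stalkAlg hg
    haveI := QCoh.isLocalization_stalk' hV hg
    have hu : IsUnit (X.presheaf.germ V (genericPoint X) hg (t : Γ(X, V))) :=
      IsLocalization.map_units (X.presheaf.stalk (genericPoint X)) t
    obtain ⟨w, hw⟩ := hu
    refine ⟨(↑w⁻¹ : X.presheaf.stalk (genericPoint X)) * X.presheaf.germ V (genericPoint X) hg r, ?_⟩
    have h1 : (w : X.presheaf.stalk (genericPoint X)) • v = X.presheaf.germ V (genericPoint X) hg r • G := by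
      rw [hw]
      exact hzt.trans (QCoh.germ_smul' M hg r e)
    rw [mul_smul, ← h1, smul_smul, Units.inv_mul, one_smul]
  refine ⟨fun c c' h => ?_, hsurj⟩
  by_contra hne
  have hG : G = 0 := by
    have h0 : (c - c') • G = 0 := by
      rw [sub_smul, sub_eq_zero]
      exact h
    have hcc : (c - c' : X.functionField) ≠ 0 := sub_ne_zero.2 hne
    calc G = (c - c')⁻¹ • ((c - c') • G) := by rw [smul_smul, inv_mul_cancel₀ hcc, one_smul]
      _ = 0 := by rw [h0, smul_zero]
  obtain ⟨c₁, hc₁⟩ := hsurj (M.presheaf.germ U (genericPoint X) hU f)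
  rw [hG, smul_zero] at hc₁
  have := hbij.1 (a₁ := (1 : X.presheaf.stalk (genericPoint X))) (a₂ := 0)
    (by simp only [← hc₁, smul_zero])
  exact one_ne_zero this

section Generic

variable [IsIntegral X] [IsIntegral P] (π : X ⟶ P)

/-- A flat morphism of finite presentation of varieties is dominant. -/
theorem map_genericPoint [Flat π] [LocallyOfFinitePresentation π] : π (genericPoint X) = genericPoint P := by
  have ho : IsOpen (Set.range π) := π.isOpenMap.isOpen_range
  obtain ⟨x, hx⟩ := (genericPoint_spec P).mem_open_set_iff ho |>.2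
    (by simpa using (Set.range_nonempty π))
  have h1 : π (genericPoint X) ⤳ π x :=
    ((genericPoint_spec X).specializes (Set.mem_univ x)).map π.continuous
  rw [hx] at h1
  exact (h1.antisymm ((genericPoint_spec P).specializes (Set.mem_univ _))).eq

variable {π} (e : π (genericPoint X) = genericPoint P)

/-- The map of function fields. -/
def toKK : P.functionField →+* X.functionField :=
  (P.presheaf.stalkSpecializes (specializes_of_eq e) ≫ π.stalkMap (genericPoint X)).hom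

theorem mem_preimage (e : π (genericPoint X) = genericPoint P) {V : P.Opens} (h : genericPoint P ∈ V) :
    genericPoint X ∈ π ⁻¹ᵁ V :=
  show π (genericPoint X) ∈ V from e.symm ▸ h

theorem toKK_germ {V : P.Opens} (h : genericPoint P ∈ V) (a : Γ(P, V)) :
    toKK e (P.presheaf.germ V (genericPoint P) h a) =
      X.presheaf.germ (π ⁻¹ᵁ V) (genericPoint X) (mem_preimage e h) (π.app V a) := by
  show π.stalkMap (genericPoint X) (P.presheaf.stalkSpecializes (specializes_of_eq e)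
    (P.presheaf.germ V (genericPoint P) h a)) = _
  rw [TopCat.Presheaf.germ_stalkSpecializes_apply, Scheme.Hom.germ_stalkMap_apply]

end Generic

section Forms

variable {fX : X ⟶ S} {fP : P ⟶ S} {π : X ⟶ P} [QuasiSeparated fX] [QuasiSeparated fP] {n : ℕ}
  (κ : Kappa fX fP π) {L : X.Modules} {ω : P.Modules}

set_option maxHeartbeats 1000000 in
/-- The pullback of top forms: semilinear, natural and given by the wedge of `κ`. -/
theorem exists_pullForms [IsAffineHom π]
    (φX : ∀ U : X.affineOpens, Γ(L, U.1) ≃ₗ[Γ(X, U.1)] ↥(⋀[Γ(X, U.1)]^n Γ(Omega.sheaf fX, U.1)))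
    (hφX : ∀ (U V : X.affineOpens) (h : V.1 ≤ U.1) (e : Fin n → Γ(Omega.sheaf fX, U.1)),
      rs L h ((φX U).symm (ιMulti _ n e)) = (φX V).symm (ιMulti _ n fun j => rs _ h (e j)))
    (φP : ∀ U : P.affineOpens, Γ(ω, U.1) ≃ₗ[Γ(P, U.1)] ↥(⋀[Γ(P, U.1)]^n Γ(Omega.sheaf fP, U.1)))
    (hφP : ∀ (U V : P.affineOpens) (h : V.1 ≤ U.1) (e : Fin n → Γ(Omega.sheaf fP, U.1)),
      rs ω h ((φP U).symm (ιMulti _ n e)) = (φP V).symm (ιMulti _ n fun j => rs _ h (e j))) :
    ∃ s : ∀ V : P.affineOpens, Γ(ω, V.1) →+ Γ(L, π ⁻¹ᵁ V.1),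
      (∀ V (a : Γ(P, V.1)) y, s V (a • y) = π.app V.1 a • s V y) ∧
      (∀ (U V : P.affineOpens) (h : V.1 ≤ U.1) y,
        rs L (fun x hx => h hx : π ⁻¹ᵁ V.1 ≤ π ⁻¹ᵁ U.1) (s U y) = s V (rs ω h y)) ∧
      ∀ V v, s V ((φP V).symm (ιMulti _ n v)) =
        (φX ⟨π ⁻¹ᵁ V.1, V.2.preimage π⟩).symm (ιMulti _ n fun i => κ.app V.1 (v i)) := by
  let s : ∀ V : P.affineOpens, Γ(ω, V.1) →+ Γ(L, π ⁻¹ᵁ V.1) := fun V =>
    ((φX ⟨π ⁻¹ᵁ V.1, V.2.preimage π⟩).symm.toAddMonoidHom.comp
      (DRHyp.Wedge.semi (π.app V.1).hom (κ.app V.1) (κ.app_smul V.1) n)).comp (φP V).toAddMonoidHom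
  have s_apply : ∀ V y, s V y = (φX ⟨π ⁻¹ᵁ V.1, V.2.preimage π⟩).symm
      (DRHyp.Wedge.semi (π.app V.1).hom (κ.app V.1) (κ.app_smul V.1) n (φP V y)) := fun _ _ => rfl
  have s_smul : ∀ V (a : Γ(P, V.1)) y, s V (a • y) = π.app V.1 a • s V y := fun V a y => by
    rw [s_apply, s_apply, (φP V).map_smul, DRHyp.Wedge.semi_smul]
    exact (φX ⟨π ⁻¹ᵁ V.1, V.2.preimage π⟩).symm.map_smul _ _
  have s_gen : ∀ V v, s V ((φP V).symm (ιMulti _ n v)) =
      (φX ⟨π ⁻¹ᵁ V.1, V.2.preimage π⟩).symm (ιMulti _ n fun i => κ.app V.1 (v i)) := fun V v => by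
    rw [s_apply, LinearEquiv.apply_symm_apply, DRHyp.Wedge.semi_ιMulti]
  refine ⟨s, s_smul, fun U V h y => ?_, s_gen⟩
  obtain ⟨w, rfl⟩ := (φP U).symm.surjective y
  induction w using DRHyp.Wedge.induct with
  | h0 => simp
  | hadd a b ha hb => simp only [map_add, ha, hb]
  | hgen a v =>
    rw [map_smul, s_smul, rs_smul, rs_smul, s_smul, s_gen, hφP U V h, s_gen]
    refine congrArg₂ (fun (c : Γ(X, π ⁻¹ᵁ V.1)) (z : Γ(L, π ⁻¹ᵁ V.1)) => c • z) ?_
      ((hφX ⟨π ⁻¹ᵁ U.1, U.2.preimage π⟩ ⟨π ⁻¹ᵁ V.1, V.2.preimage π⟩ (fun x hx => h hx) _).trans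
      (congrArg (fun w : Fin n → Γ(Omega.sheaf fX, π ⁻¹ᵁ V.1) =>
        (φX ⟨π ⁻¹ᵁ V.1, V.2.preimage π⟩).symm (ιMulti _ n w))
        (funext fun i => κ.app_rs h (v i))))
    exact (ConcreteCategory.congr_hom (π.naturality (homOfLE h).op) a).symm

variable [IsIntegral X] [IsIntegral P] [IsFinite π] [Flat π] [IsLocallyNoetherian P] [IsAffine S]
  [SmoothOfRelativeDimension n fX] [SmoothOfRelativeDimension n fP]

/-- **The trace of top forms**, with perfect pairing in every chart. -/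
theorem exists_trace (hπ : π ≫ fP = fX) (hgen : π (genericPoint X) = genericPoint P)
    (hsep : letI := (toKK hgen).toAlgebra; Algebra.IsSeparable P.functionField X.functionField)
    (hL : ExtPow.IsExtPow n (Omega.sheaf fX) L) (hω : ExtPow.IsExtPow n (Omega.sheaf fP) ω) :
    ∃ T : (Scheme.Modules.pushforward π).obj L ⟶ ω, ∀ (C : Chart fX fP π n)
      (g : Γ(X, π ⁻¹ᵁ C.V) →+ Γ(ω, C.V)), (∀ a x, g (π.app C.V a * x) = a • g x) →
        ∃! η : Γ(L, π ⁻¹ᵁ C.V), ∀ x : Γ(X, π ⁻¹ᵁ C.V), T.app C.V (x • η) = g x := by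
  classical
  obtain ⟨κ⟩ := nonempty_kappa fX fP π hπ
  have hLi := CanonDual.isInvertible_of_isTopDiff fX n hL
  have hωi := CanonDual.isInvertible_of_isTopDiff fP n hω
  obtain ⟨φX₀, hφX₀⟩ := hL
  obtain ⟨φP₀, hφP₀⟩ := hω
  let φX : ∀ U : X.affineOpens, Γ(L, U.1) ≃ₗ[Γ(X, U.1)] ↥(⋀[Γ(X, U.1)]^n Γ(Omega.sheaf fX, U.1)) := φX₀
  let φP : ∀ U : P.affineOpens, Γ(ω, U.1) ≃ₗ[Γ(P, U.1)] ↥(⋀[Γ(P, U.1)]^n Γ(Omega.sheaf fP, U.1)) := φP₀
  obtain ⟨s, s_smul, s_res, s_gen⟩ := exists_pullForms κ φX hφX₀ φP hφP₀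
  haveI : Smooth fX := SmoothOfRelativeDimension.smooth n fX
  haveI : Smooth fP := SmoothOfRelativeDimension.smooth n fP
  have hsyn : Synt.IsSyntomicMor π := (Synt29.flat_and_isKoszulAt_iff π).1 ⟨inferInstance, fun x =>
    S9729.result π fP (fun z => hπ ▸ ((Synt29.flat_and_isKoszulAt_iff fX).2 (GrpSchLib.Syntomic.isSyntomic_of_smooth fX)).2 z) x⟩
  letI algK : Algebra P.functionField X.functionField := (toKK hgen).toAlgebra
  haveI := hsep
  -- per chart
  let eω : ∀ C : Chart fX fP π n, Γ(ω, C.V) := fun C => (φP ⟨C.V, C.hV⟩).symm (ιMulti _ n C.bA)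
  let eL : ∀ C : Chart fX fP π n, Γ(L, π ⁻¹ᵁ C.V) := fun C =>
    (φX ⟨π ⁻¹ᵁ C.V, C.hV.preimage π⟩).symm (ιMulti _ n C.bB)
  have hs : ∀ C, s ⟨C.V, C.hV⟩ (eω C) = κ.det C • eL C := fun C => by
    refine (s_gen ⟨C.V, C.hV⟩ C.bA).trans ?_
    rw [ιMulti_eq_det C.bB]
    exact (φX ⟨π ⁻¹ᵁ C.V, C.hV.preimage π⟩).symm.map_smul _ _
  have genω : ∀ C z, ∃ r : Γ(P, C.V), z = r • eω C := fun C z => exists_smul_wedge (φP ⟨C.V, C.hV⟩) C.bA z
  have genL : ∀ C z, ∃ r : Γ(X, π ⁻¹ᵁ C.V), z = r • eL C := fun C z =>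
    exists_smul_wedge (φX ⟨π ⁻¹ᵁ C.V, C.hV.preimage π⟩) C.bB z
  have bω : ∀ (C : Chart fX fP π n) (h : genericPoint P ∈ C.V), Function.Bijective fun c : P.functionField =>
      c • ω.presheaf.germ C.V _ h (eω C) := fun C h => generic_basis hωi C.hV h _ (genω C)
  have bL : ∀ (C : Chart fX fP π n) (h : genericPoint P ∈ C.V), Function.Bijective fun c : X.functionField =>
      c • L.presheaf.germ (π ⁻¹ᵁ C.V) _ (mem_preimage hgen h) (eL C) := fun C h =>
    generic_basis hLi (C.hV.preimage π) _ _ (genL C)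
  -- the algebra in a chart
  have alg : ∀ (C : Chart fX fP π n) (h : genericPoint P ∈ C.V),
      X.presheaf.germ (π ⁻¹ᵁ C.V) _ (mem_preimage hgen h) (κ.det C) ≠ 0 ∧
      (∀ b : Γ(X, π ⁻¹ᵁ C.V), ∃ a : Γ(P, C.V), P.presheaf.germ C.V _ h a =
        Algebra.trace P.functionField X.functionField
          (X.presheaf.germ (π ⁻¹ᵁ C.V) _ (mem_preimage hgen h) b /
            X.presheaf.germ (π ⁻¹ᵁ C.V) _ (mem_preimage hgen h) (κ.det C))) ∧
      ∀ g : Γ(X, π ⁻¹ᵁ C.V) →+ Γ(P, C.V), (∀ a x, g (π.app C.V a * x) = a * g x) →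
        ∃! b : Γ(X, π ⁻¹ᵁ C.V), ∀ x, P.presheaf.germ C.V _ h (g x) =
          Algebra.trace P.functionField X.functionField
            (X.presheaf.germ (π ⁻¹ᵁ C.V) _ (mem_preimage hgen h) b /
              X.presheaf.germ (π ⁻¹ᵁ C.V) _ (mem_preimage hgen h) (κ.det C) *
                X.presheaf.germ (π ⁻¹ᵁ C.V) _ (mem_preimage hgen h) x) := by
    intro C h
    let A := Γ(P, C.V)
    let B := Γ(X, π ⁻¹ᵁ C.V)
    haveI : Nonempty C.V := ⟨⟨_, h⟩⟩
    haveI : Nonempty (π ⁻¹ᵁ C.V) := ⟨⟨_, mem_preimage hgen h⟩⟩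
    haveI : IsNoetherianRing A := IsLocallyNoetherian.component_noetherian ⟨C.V, C.hV⟩
    letI : Algebra A B := (π.app C.V).hom.toAlgebra
    haveI : Module.Finite A B := π.finite_app C.V C.hV
    haveI : Module.Free A B := C.free
    letI : Algebra A P.functionField := (P.presheaf.germ C.V _ h).hom.toAlgebra
    letI : Algebra B X.functionField := (X.presheaf.germ (π ⁻¹ᵁ C.V) _ (mem_preimage hgen h)).hom.toAlgebra
    letI : Algebra A X.functionField := ((algebraMap B X.functionField).comp (algebraMap A B)).toAlgebra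
    haveI : IsScalarTower A B X.functionField := IsScalarTower.of_algebraMap_eq fun _ => rfl
    haveI : IsScalarTower A P.functionField X.functionField := IsScalarTower.of_algebraMap_eq fun a =>
      (toKK_germ hgen h a).symm
    haveI : IsFractionRing A P.functionField := functionField_isFractionRing_of_isAffineOpen P C.V C.hV
    haveI : IsFractionRing B X.functionField :=
      functionField_isFractionRing_of_isAffineOpen X (π ⁻¹ᵁ C.V) (C.hV.preimage π)
    have hsynA : Synt.IsSyntomic A B := by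
      have hh : ∀ (φ : A ⟶ B), φ = π.app C.V → @Synt.IsSyntomic ↑A _ ↑B _ φ.hom.toAlgebra →
          @Synt.IsSyntomic ↑A _ ↑B _ (π.app C.V).hom.toAlgebra := fun φ e h' => e ▸ h'
      exact hh _ (Scheme.Hom.app_eq_appLE π).symm
        ((Synt29.isSyntomicMor_iff_appLE π).1 hsyn ⟨π ⁻¹ᵁ C.V, C.hV.preimage π⟩ ⟨C.V, C.hV⟩ le_rfl)
    obtain ⟨hd, hex, huniq⟩ := trace_pairing P.functionField X.functionField hsynA (κ.det C)
      (Kappa.fitting_eq hπ κ C (isAffineOpen_top S) le_top)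
    refine ⟨(map_ne_zero_iff _ (IsFractionRing.injective B X.functionField)).2 hd, fun b => ?_, fun g hg => ?_⟩
    · obtain ⟨φ, hφ⟩ := hex b
      refine ⟨φ 1, ?_⟩
      exact (hφ 1).trans (by rw [(algebraMap B X.functionField).map_one, mul_one]; rfl)
    · exact huniq { toFun := g, map_add' := map_add g, map_smul' := fun a x => hg a x }
  -- a base chart
  obtain ⟨C₀, h₀, -⟩ := exists_chart fX fP π n (show genericPoint P ∈ (⊤ : P.Opens) from trivial)
  let w₀ := ω.presheaf.germ C₀.V _ h₀ (eω C₀)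
  let s₀ := L.presheaf.germ (π ⁻¹ᵁ C₀.V) _ (mem_preimage hgen h₀) (s ⟨C₀.V, C₀.hV⟩ (eω C₀))
  have key : ∀ (V : P.affineOpens) (h : genericPoint P ∈ V.1) (y : Γ(ω, V.1)) (c : P.functionField),
      ω.presheaf.germ V.1 _ h y = c • w₀ →
        L.presheaf.germ (π ⁻¹ᵁ V.1) _ (mem_preimage hgen h) (s V y) = toKK hgen c • s₀ := by
    intro V h y c hc
    obtain ⟨W, hW, r, rfl⟩ := TopCat.Presheaf.exists_germ_eq P.presheaf c
    let U := W ⊓ V.1 ⊓ C₀.V
    have hU : genericPoint P ∈ U := ⟨⟨hW, h⟩, h₀⟩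
    have heq : ω.presheaf.germ U _ hU (rs ω (inf_le_left.trans inf_le_right) y) =
        ω.presheaf.germ U _ hU
          (rf (inf_le_left.trans inf_le_left : U ≤ W) r • rs ω (inf_le_right : U ≤ C₀.V) (eω C₀)) := by
      rw [QCoh.germ_smul', TopCat.Presheaf.germ_res_apply, TopCat.Presheaf.germ_res_apply,
        TopCat.Presheaf.germ_res_apply]
      exact hc
    obtain ⟨U', hU', i, j, hij⟩ := TopCat.Presheaf.germ_eq ω.presheaf (genericPoint P) hU hU _ _ heq
    obtain ⟨Z, hZ, hZle⟩ := exists_affine_nhd hU'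
    have hZV : Z.1 ≤ V.1 := hZle.trans (i.le.trans (inf_le_left.trans inf_le_right))
    have hZ₀ : Z.1 ≤ C₀.V := hZle.trans (i.le.trans inf_le_right)
    have hZW : Z.1 ≤ W := hZle.trans (i.le.trans (inf_le_left.trans inf_le_left))
    have h1 : rs ω hZV y = rf hZW r • rs ω hZ₀ (eω C₀) := by
      have h2 := congrArg (rs ω hZle) (show rs ω i.le _ = rs ω j.le _ from hij)
      repeat rw [rs_smul] at h2
      repeat rw [rs_rs] at h2
      repeat rw [rf_rf] at h2
      repeat rw [rs_rs] at h2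
      exact h2
    have h3 := congrArg (L.presheaf.germ (π ⁻¹ᵁ Z.1) _ (mem_preimage hgen hZ))
      ((s_res V Z hZV y).trans ((congrArg (s Z) h1).trans ((s_smul Z _ _).trans
        (congrArg (π.app Z.1 (rf hZW r) • ·) (s_res ⟨C₀.V, C₀.hV⟩ Z hZ₀ (eω C₀)).symm))))
    rw [TopCat.Presheaf.germ_res_apply, QCoh.germ_smul', TopCat.Presheaf.germ_res_apply, ← toKK_germ hgen hZ] at h3
    rw [h3]
    refine congrArg₂ (· • ·) (congrArg (toKK hgen) ?_) rfl
    exact TopCat.Presheaf.germ_res_apply P.presheaf (homOfLE hZW) _ hZ r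
  have bw₀ : Function.Bijective fun c : P.functionField => c • w₀ := bω C₀ h₀
  have bs₀ : Function.Bijective fun c : X.functionField => c • s₀ := by
    have h1 : s₀ = X.presheaf.germ (π ⁻¹ᵁ C₀.V) _ (mem_preimage hgen h₀) (κ.det C₀) •
        L.presheaf.germ (π ⁻¹ᵁ C₀.V) _ (mem_preimage hgen h₀) (eL C₀) := by
      show L.presheaf.germ _ _ _ _ = _
      rw [hs, QCoh.germ_smul']
    have h2 := (alg C₀ h₀).1
    let d : X.functionField := X.presheaf.germ (π ⁻¹ᵁ C₀.V) _ (mem_preimage hgen h₀) (κ.det C₀)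
    let md : X.functionField ≃ X.functionField :=
      { toFun := (· * d), invFun := (· / d), left_inv := fun c => mul_div_cancel_right₀ c h2,
        right_inv := fun c => div_mul_cancel₀ c h2 }
    have h3 := (bL C₀ h₀).comp md.bijective
    convert h3 using 1
    funext c
    rw [h1, smul_smul]
    rfl
  -- generic coordinates in a chart
  have coord : ∀ (C : Chart fX fP π n) (h : genericPoint P ∈ C.V), ∃ a : P.functionField,
      ω.presheaf.germ C.V _ h (eω C) = a • w₀ ∧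
      L.presheaf.germ (π ⁻¹ᵁ C.V) _ (mem_preimage hgen h) (eL C) =
        (toKK hgen a / X.presheaf.germ (π ⁻¹ᵁ C.V) _ (mem_preimage hgen h) (κ.det C)) • s₀ := by
    intro C h
    obtain ⟨a, ha⟩ := bw₀.2 (ω.presheaf.germ C.V _ h (eω C))
    refine ⟨a, ha.symm, ?_⟩
    have h1 := key ⟨C.V, C.hV⟩ h (eω C) a ha.symm
    rw [hs, QCoh.germ_smul'] at h1
    have h2 := (alg C h).1
    rw [div_eq_inv_mul, mul_smul, ← h1, smul_smul, inv_mul_cancel₀ h2, one_smul]
  let tr := Algebra.trace P.functionField X.functionField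
  let Rel : ∀ U : P.Opens, Γ((Scheme.Modules.pushforward π).obj L, U) → Γ(ω, U) → Prop := fun U η y =>
    ∀ h : genericPoint P ∈ U, ∃ c : X.functionField,
      L.presheaf.germ (π ⁻¹ᵁ U) _ (mem_preimage hgen h) (show Γ(L, π ⁻¹ᵁ U) from η) = c • s₀ ∧
      ω.presheaf.germ U _ h y = tr c • w₀
  have cmp : ∀ (C : Chart fX fP π n) (h : genericPoint P ∈ C.V) (b : Γ(X, π ⁻¹ᵁ C.V)) (a : Γ(P, C.V)),
      P.presheaf.germ C.V _ h a = tr (X.presheaf.germ (π ⁻¹ᵁ C.V) _ (mem_preimage hgen h) b /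
        X.presheaf.germ (π ⁻¹ᵁ C.V) _ (mem_preimage hgen h) (κ.det C)) →
      Rel C.V (b • eL C) (a • eω C) := by
    intro C h b a hba h'
    obtain ⟨a₀, ha₀, hb₀⟩ := coord C h
    refine ⟨X.presheaf.germ (π ⁻¹ᵁ C.V) _ (mem_preimage hgen h) b *
      (toKK hgen a₀ / X.presheaf.germ (π ⁻¹ᵁ C.V) _ (mem_preimage hgen h) (κ.det C)), ?_, ?_⟩
    · show L.presheaf.germ _ _ _ (b • eL C) = _
      rw [QCoh.germ_smul', hb₀, smul_smul]
    · rw [QCoh.germ_smul', ha₀, smul_smul, hba]
      congr 1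
      rw [mul_div_assoc', mul_comm _ (toKK hgen a₀), mul_div_assoc,
        show toKK hgen a₀ = algebraMap P.functionField X.functionField a₀ from rfl, ← Algebra.smul_def,
        map_smul, smul_eq_mul, mul_comm]
  have injω : ∀ (C : Chart fX fP π n) (h : genericPoint P ∈ C.V) (y y' : Γ(ω, C.V)),
      ω.presheaf.germ C.V _ h y = ω.presheaf.germ C.V _ h y' → y = y' := by
    intro C h y y' hyy
    obtain ⟨r, rfl⟩ := genω C y
    obtain ⟨r', rfl⟩ := genω C y'
    rw [QCoh.germ_smul', QCoh.germ_smul'] at hyy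
    haveI : Nonempty C.V := ⟨⟨_, h⟩⟩
    exact congrArg (· • eω C) (P.germToFunctionField_injective C.V ((bω C h).1 hyy))
  obtain ⟨T, hT⟩ := exists_hom_of_rel (M := (Scheme.Modules.pushforward π).obj L) (N := ω) Rel
    (fun {U V} hVU η y hR h => by
      obtain ⟨c, hc, hc'⟩ := hR (hVU h)
      refine ⟨c, ?_, ?_⟩
      · exact (TopCat.Presheaf.germ_res_apply L.presheaf _ _ _ _).trans hc
      · exact (TopCat.Presheaf.germ_res_apply ω.presheaf _ _ _ _).trans hc')
    (fun U η η' y y' hR hR' h => by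
      obtain ⟨c, hc, hc'⟩ := hR h
      obtain ⟨d, hd, hd'⟩ := hR' h
      exact ⟨c + d, (map_add _ _ _).trans ((congrArg₂ (· + ·) hc hd).trans (add_smul _ _ _).symm),
        (map_add _ _ _).trans ((congrArg₂ (· + ·) hc' hd').trans
          (((add_smul _ _ _).symm).trans (by rw [map_add])))⟩)
    (fun U a η y hR h => by
      obtain ⟨c, hc, hc'⟩ := hR h
      refine ⟨toKK hgen (P.presheaf.germ U _ h a) * c, ?_, ?_⟩
      · show L.presheaf.germ _ _ _ (π.app U a • (show Γ(L, π ⁻¹ᵁ U) from η)) = _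
        rw [QCoh.germ_smul', hc, smul_smul, toKK_germ]
      · rw [QCoh.germ_smul', hc', smul_smul,
          show toKK hgen (P.presheaf.germ U _ h a) = algebraMap P.functionField X.functionField (P.presheaf.germ U _ h a) from rfl,
          ← Algebra.smul_def, map_smul, smul_eq_mul])
    (fun U η y y' hR hR' => eq_of_locally ω _ _ fun p hp => by
      obtain ⟨C, hpC, hCU⟩ := exists_chart fX fP π n hp
      have hgC : genericPoint P ∈ C.V := ((genericPoint_spec P).specializes (Set.mem_univ p)).mem_open C.V.2 hpC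
      refine ⟨C.V, hCU, hpC, injω C hgC _ _ ?_⟩
      obtain ⟨c, hc, hc'⟩ := hR (hCU hgC)
      obtain ⟨d, hd, hd'⟩ := hR' (hCU hgC)
      obtain rfl : c = d := bs₀.1 (hc.symm.trans hd)
      rw [TopCat.Presheaf.germ_res_apply, TopCat.Presheaf.germ_res_apply, hc', hd'])
    (fun U η p hp => by
      obtain ⟨C, hpC, hCU⟩ := exists_chart fX fP π n hp
      have hgC : genericPoint P ∈ C.V := ((genericPoint_spec P).specializes (Set.mem_univ p)).mem_open C.V.2 hpC
      obtain ⟨b, hb⟩ := genL C (show Γ(L, π ⁻¹ᵁ C.V) from rs ((Scheme.Modules.pushforward π).obj L) hCU η)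
      obtain ⟨a, ha⟩ := (alg C hgC).2.1 b
      refine ⟨C.V, hCU, hpC, a • eω C, ?_⟩
      rw [show rs ((Scheme.Modules.pushforward π).obj L) hCU η = b • eL C from hb]
      exact cmp C hgC b a ha)
  refine ⟨T, fun C g hg => ?_⟩
  by_cases hgC : genericPoint P ∈ C.V
  swap
  · have hemp : ∀ p, p ∉ C.V := fun p hp =>
      hgC (((genericPoint_spec P).specializes (Set.mem_univ p)).mem_open C.V.2 hp)
    refine ⟨0, fun x => eq_of_locally ω _ _ fun p hp => absurd hp (hemp p),
      fun η _ => eq_of_locally L _ _ fun x hx => absurd hx (hemp (π x))⟩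
  haveI : Nonempty C.V := ⟨⟨_, hgC⟩⟩
  choose gA hgA using fun x => genω C (g x)
  have coordinj : ∀ r r' : Γ(P, C.V), r • eω C = r' • eω C → r = r' := fun r r' hrr =>
    P.germToFunctionField_injective C.V ((bω C hgC).1 (by
      have := congrArg (ω.presheaf.germ C.V _ hgC) hrr
      rwa [QCoh.germ_smul', QCoh.germ_smul'] at this))
  let gl : Γ(X, π ⁻¹ᵁ C.V) →+ Γ(P, C.V) := AddMonoidHom.mk' gA fun x y =>
    coordinj _ _ (by rw [← hgA, map_add, add_smul, ← hgA, ← hgA])
  have hgl : ∀ a x, gl (π.app C.V a * x) = a * gl x := fun a x =>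
    coordinj _ _ (by
      show gA _ • _ = (a * gA x) • _
      rw [← hgA, hg, mul_smul, ← hgA])
  obtain ⟨b, hb, hbu⟩ := (alg C hgC).2.2 gl hgl
  have hTval : ∀ b' x : Γ(X, π ⁻¹ᵁ C.V), ∃ a : Γ(P, C.V),
      T.app C.V (x • (b' • eL C)) = a • eω C ∧ P.presheaf.germ C.V _ hgC a =
        tr (X.presheaf.germ (π ⁻¹ᵁ C.V) _ (mem_preimage hgen hgC) b' /
          X.presheaf.germ (π ⁻¹ᵁ C.V) _ (mem_preimage hgen hgC) (κ.det C) *
            X.presheaf.germ (π ⁻¹ᵁ C.V) _ (mem_preimage hgen hgC) x) := by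
    intro b' x
    obtain ⟨a, ha⟩ := (alg C hgC).2.1 (b' * x)
    refine ⟨a, hT _ _ _ ?_, by rw [ha, map_mul, div_mul_eq_mul_div]⟩
    rw [show x • (b' • eL C) = (b' * x) • eL C by rw [smul_smul, mul_comm]]
    exact cmp C hgC _ a ha
  refine ⟨b • eL C, fun x => ?_, fun η hη => ?_⟩
  · obtain ⟨a, ha, ha'⟩ := hTval b x
    rw [ha, hgA x]
    refine congrArg (· • eω C) (P.germToFunctionField_injective C.V ?_)
    exact ha'.trans (hb x).symm
  · obtain ⟨b', rfl⟩ := genL C η
    refine congrArg (· • eL C) (hbu b' fun x => ?_)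
    obtain ⟨a, ha, ha'⟩ := hTval b' x
    rw [← ha']
    refine congrArg (P.presheaf.germ C.V _ hgC) (coordinj _ _ ?_)
    rw [← ha, hη x]
    exact (hgA x).symm

end Forms

end Groth.Agent.OmegaTop
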