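import Groth.Agent.DiscFam.SyntomicDiff
import Mathlib.RingTheory.Trace.Basic
import Mathlib.RingTheory.Kaehler.Basic

/-!
# The trace duality of top forms: the commutative algebra

For a finite free syntomic extension of domains with separable fraction field extension whose relative
differentials are presented by a square matrix `M`, the pairing `(b, x) ↦ Tr(b x / det M)` is perfect.
-/

set_option autoImplicit false
set_option linter.style.haveILetI false
set_option linter.unusedSectionVars false

universe u

open Module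

namespace Groth.Agent.OmegaTop

section Fitt

variable {k A B : Type u} [CommRing k] [CommRing A] [CommRing B] [Algebra k A] [Algebra k B] [Algebra A B]
  [IsScalarTower k A B] {n : ℕ}

/-- The Fitting ideal of the relative differentials is the determinant of the Jacobian matrix in bases. -/
theorem fitting_eq_span_det (eA : Basis (Fin n) A Ω[A⁄k]) (eB : Basis (Fin n) B Ω[B⁄k]) :
    Fitt.ideal B (KaehlerDifferential A B) 0 = Ideal.span
      {(Matrix.of fun i j => eB.repr (KaehlerDifferential.map k k A B (eA i)) j).det} := by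
  let q := KaehlerDifferential.map k A B B
  let x : Fin n → Ω[B⁄A] := fun j => q (eB j)
  have hq : Function.Surjective q := KaehlerDifferential.map_surjective k A B
  have hx : Submodule.span B (Set.range x) = ⊤ := by
    rw [show Set.range x = q '' Set.range eB from Set.range_comp q eB, Submodule.span_image, eB.span_eq,
      Submodule.map_top, LinearMap.range_eq_top.2 hq]
  rw [FittX.ideal_eq_minors x hx 0, Nat.sub_zero]
  have hrel : FittX.rel (R := B) x = Submodule.span B
      (Set.range fun i j => eB.repr (KaehlerDifferential.map k k A B (eA i)) j) := by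
    ext z
    rw [FittX.mem_rel, show ∑ j, z j • x j = q (eB.equivFun.symm z) by
      simp only [x, Basis.equivFun_symm_apply, map_sum, map_smul]]
    have h1 : q (eB.equivFun.symm z) = 0 ↔
        eB.equivFun.symm z ∈ LinearMap.range (KaehlerDifferential.mapBaseChange k A B) :=
      KaehlerDifferential.exact_mapBaseChange_map k A B _
    have h2 : LinearMap.range (KaehlerDifferential.mapBaseChange k A B) =
        Submodule.span B (Set.range fun i => KaehlerDifferential.map k k A B (eA i)) := by
      rw [← Submodule.map_top, ← (Algebra.TensorProduct.basis B eA).span_eq, Submodule.map_span, ← Set.range_comp]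
      congr 2
      funext i
      simp [Algebra.TensorProduct.basis_apply, KaehlerDifferential.mapBaseChange_tmul]
    rw [h1, h2, show (fun i j => eB.repr (KaehlerDifferential.map k k A B (eA i)) j) =
      eB.equivFun ∘ fun i => KaehlerDifferential.map k k A B (eA i) from rfl, Set.range_comp,
      show (eB.equivFun : Ω[B⁄k] → (Fin n → B)) = ⇑eB.equivFun.toLinearMap from rfl,
      Submodule.span_image, Submodule.mem_map_equiv]
  rw [hrel, DiscFam.minors_span_rows]

end Fitt

section Pairing

variable {A B K₀ K : Type u} [CommRing A] [CommRing B] [Algebra A B] [IsDomain A] [IsDomain B]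
  [IsNoetherianRing A] [Module.Finite A B] [Module.Free A B]
  [Field K₀] [Field K] [Algebra A K₀] [IsFractionRing A K₀] [Algebra B K] [IsFractionRing B K]
  [Algebra K₀ K] [Algebra A K] [IsScalarTower A B K] [IsScalarTower A K₀ K]

variable (A B K) in
theorem isLocalization_fraction : IsLocalization (Algebra.algebraMapSubmonoid B (nonZeroDivisors A)) K := by
  have hinj : Function.Injective (algebraMap A B) := FaithfulSMul.algebraMap_injective A B
  refine ⟨?_, fun z => ?_, fun {x y} h => ⟨1, by simpa using IsFractionRing.injective B K h⟩⟩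
  · rintro ⟨_, a, ha, rfl⟩
    rw [isUnit_iff_ne_zero]
    exact (map_ne_zero_iff _ (IsFractionRing.injective B K)).2
      ((map_ne_zero_iff _ hinj).2 (nonZeroDivisors.ne_zero ha))
  · obtain ⟨b, c, hc, rfl⟩ := IsFractionRing.div_surjective B z
    have hne : (Ideal.span {c}).comap (algebraMap A B) ≠ ⊥ := fun h => by
      have := Ideal.eq_bot_of_comap_eq_bot h
      rw [Ideal.span_singleton_eq_bot] at this
      exact nonZeroDivisors.ne_zero hc this
    obtain ⟨a, ha, ha0⟩ := Submodule.exists_mem_ne_zero_of_ne_bot hne
    obtain ⟨c', hc'⟩ := Ideal.mem_span_singleton'.1 ha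
    refine ⟨⟨b * c', ⟨algebraMap A B a, a, mem_nonZeroDivisors_of_ne_zero ha0, rfl⟩⟩, ?_⟩
    show algebraMap B K b / algebraMap B K c * algebraMap B K (algebraMap A B a) = algebraMap B K (b * c')
    have : algebraMap B K c ≠ 0 := (map_ne_zero_iff _ (IsFractionRing.injective B K)).2 (nonZeroDivisors.ne_zero hc)
    rw [← hc', map_mul, map_mul]
    field_simp

/-- A functional on `B` is the trace against a unique element of the fraction field. -/
theorem existsUnique_trace_repr [Algebra.IsSeparable K₀ K] (φ : B →ₗ[A] A) :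
    ∃! c : K, ∀ x, algebraMap A K₀ (φ x) = Algebra.trace K₀ K (c * algebraMap B K x) := by
  classical
  haveI := isLocalization_fraction A B K
  let b := Module.Free.chooseBasis A B
  let bK := b.localizationLocalization K₀ (nonZeroDivisors A) K
  haveI : FiniteDimensional K₀ K := bK.finiteDimensional_of_finite
  have hnd := traceForm_nondegenerate K₀ K
  let ψ : Module.Dual K₀ K := bK.constr K₀ fun i => algebraMap A K₀ (φ (b i))
  obtain ⟨c, hc⟩ := (LinearMap.BilinForm.toDual (Algebra.traceForm K₀ K) hnd).surjective ψ
  have hψ : ∀ x, ψ (algebraMap B K x) = algebraMap A K₀ (φ x) := fun x => by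
    let L : B →ₗ[A] K₀ := (ψ.restrictScalars A).comp (IsScalarTower.toAlgHom A B K).toLinearMap
    let R : B →ₗ[A] K₀ := (Algebra.linearMap A K₀).comp φ
    refine LinearMap.congr_fun (show L = R from b.ext fun i => ?_) x
    show ψ (algebraMap B K (b i)) = algebraMap A K₀ (φ (b i))
    rw [← Basis.localizationLocalization_apply K₀ (nonZeroDivisors A) K b i]
    exact bK.constr_basis K₀ _ i
  have hform : ∀ (c' : K) (z : K), (LinearMap.BilinForm.toDual (Algebra.traceForm K₀ K) hnd c') z =
      Algebra.trace K₀ K (c' * z) := fun c' z => by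
    rw [LinearMap.BilinForm.toDual_def, Algebra.traceForm_apply]
  refine ⟨c, fun x => by rw [← hψ, ← hc, hform], fun c' hc' => ?_⟩
  apply (LinearMap.BilinForm.toDual (Algebra.traceForm K₀ K) hnd).injective
  rw [hc]
  refine bK.ext fun i => ?_
  rw [hform, Basis.localizationLocalization_apply K₀ (nonZeroDivisors A) K b i, ← hc', hψ]

variable (K₀ K) in
/-- The trace representative of a functional. -/
noncomputable def coef [Algebra.IsSeparable K₀ K] (φ : Disc.Omega A B) : K :=
  (existsUnique_trace_repr (K₀ := K₀) (K := K) φ.toLinearMap).choose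

theorem coef_spec [Algebra.IsSeparable K₀ K] (φ : Disc.Omega A B) (x : B) :
    algebraMap A K₀ (φ.toLinearMap x) = Algebra.trace K₀ K (coef K₀ K φ * algebraMap B K x) :=
  (existsUnique_trace_repr (K₀ := K₀) (K := K) φ.toLinearMap).choose_spec.1 x

theorem coef_unique [Algebra.IsSeparable K₀ K] (φ : Disc.Omega A B) (c : K)
    (h : ∀ x, algebraMap A K₀ (φ.toLinearMap x) = Algebra.trace K₀ K (c * algebraMap B K x)) :
    coef K₀ K φ = c :=
  ((existsUnique_trace_repr (K₀ := K₀) (K := K) φ.toLinearMap).choose_spec.2 c h).symm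

theorem trace_algebraMap' (x : B) :
    algebraMap A K₀ (Algebra.trace A B x) = Algebra.trace K₀ K (algebraMap B K x) := by
  haveI := isLocalization_fraction A B K
  exact (Algebra.trace_localization A (Rₘ := K₀) (Sₘ := K) (nonZeroDivisors A) x).symm

theorem coef_add [Algebra.IsSeparable K₀ K] (φ ψ : Disc.Omega A B) :
    coef K₀ K (φ + ψ) = coef K₀ K φ + coef K₀ K ψ :=
  coef_unique _ _ fun x => by
    rw [Disc.Omega.add_toLinearMap, LinearMap.add_apply, map_add, coef_spec (K := K), coef_spec (K := K),
      add_mul, map_add]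

theorem coef_smul [Algebra.IsSeparable K₀ K] (b : B) (φ : Disc.Omega A B) :
    coef K₀ K (b • φ) = algebraMap B K b * coef K₀ K φ :=
  coef_unique _ _ fun x => by
    rw [Disc.Omega.smul_toLinearMap_apply, coef_spec (K := K)]
    congr 1
    rw [map_mul]
    ring

theorem coef_trace [Algebra.IsSeparable K₀ K] : coef K₀ K (Disc.Omega.trace A B) = 1 :=
  coef_unique _ _ fun x => by rw [one_mul]; exact trace_algebraMap' x

variable (K₀ K) in
/-- Perfectness of the pairing `(b, x) ↦ Tr(b x / d)`, for a generator `d` of the Kähler different. -/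
theorem trace_pairing [Algebra.IsSeparable K₀ K] (h : Synt.IsSyntomic A B) (d : B)
    (hd : Fitt.ideal B (KaehlerDifferential A B) 0 = Ideal.span {d}) :
    d ≠ 0 ∧
    (∀ b : B, ∃ φ : B →ₗ[A] A, ∀ x, algebraMap A K₀ (φ x) =
      Algebra.trace K₀ K (algebraMap B K b / algebraMap B K d * algebraMap B K x)) ∧
    (∀ φ : B →ₗ[A] A, ∃! b : B, ∀ x, algebraMap A K₀ (φ x) =
      Algebra.trace K₀ K (algebraMap B K b / algebraMap B K d * algebraMap B K x)) := by
  classical
  haveI := h.1
  haveI := h.2.1
  haveI := isLocalization_fraction A B K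
  have hlci : LCI.IsLCI A B := by
    obtain ⟨m, f, hf, -⟩ := (inferInstance : Algebra.FinitePresentation A B).out
    exact ⟨inferInstance, m, f, hf, Synt29.isKoszulRegularIdeal_ker_of_isSyntomic h f hf⟩
  haveI : Module.Invertible B (Disc.Omega A B) := QFD.gorenstein_fibres_iff.mp fun p _ =>
    LC.gorensteinRing_of_ringEquiv (Algebra.TensorProduct.comm A B p.ResidueField).toRingEquiv
      (LC.gorensteinRing_fibre_of_isLCI A B hlci p)
  have hdiff := (DiscFam.differentSet_eq_fitting B h).trans (congrArg SetLike.coe hd)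
  have hinjK := IsFractionRing.injective B K
  -- `d` clears the denominators of every functional
  have hclear : ∀ φ : Disc.Omega A B, ∃ b : B, algebraMap B K b = algebraMap B K d * coef K₀ K φ := by
    intro φ
    have hmem : d ∈ Disc.differentSet A B := by
      rw [hdiff]
      exact Ideal.mem_span_singleton_self d
    obtain ⟨b, hb⟩ := hmem φ.toLinearMap
    refine ⟨b, ?_⟩
    rw [← coef_smul]
    refine (coef_unique _ _ fun x => ?_).symm
    rw [Disc.Omega.smul_toLinearMap_apply, hb x, trace_algebraMap' (K := K), map_mul]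
  -- linear forms on the dualizing module are multiplication by elements of the different
  have hform : ∀ f : Disc.Omega A B →ₗ[B] B, ∀ φ,
      algebraMap B K (f φ) = coef K₀ K φ * algebraMap B K (f (Disc.Omega.trace A B)) := by
    intro f φ
    obtain ⟨⟨r, s⟩, hrs⟩ := IsLocalization.surj (nonZeroDivisors B) (coef K₀ K φ)
    have h1 : (s : B) • φ = r • Disc.Omega.trace A B := by
      refine Disc.Omega.ext (LinearMap.ext fun x => IsFractionRing.injective A K₀ ?_)
      rw [coef_spec (K := K), coef_spec (K := K), coef_smul, coef_smul, coef_trace, mul_one, ← hrs, mul_comm (coef K₀ K φ)]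
    have h3 := congrArg f h1
    rw [f.map_smul, f.map_smul, smul_eq_mul, smul_eq_mul] at h3
    have h2 := congrArg (algebraMap B K) h3
    rw [map_mul, map_mul, ← hrs] at h2
    have hs : algebraMap B K (s : B) ≠ 0 := (map_ne_zero_iff _ hinjK).2 (nonZeroDivisors.ne_zero s.2)
    apply mul_left_cancel₀ hs
    rw [h2]
    ring
  have hmem : ∀ f : Disc.Omega A B →ₗ[B] B, ∃ g, f (Disc.Omega.trace A B) = g * d := by
    intro f
    have : f (Disc.Omega.trace A B) ∈ Disc.differentSet A B := fun φ => by
      refine ⟨f ⟨φ⟩, fun x => IsFractionRing.injective A K₀ ?_⟩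
      refine (coef_spec (K₀ := K₀) (K := K) (⟨φ⟩ : Disc.Omega A B) _).trans (Eq.trans ?_ (trace_algebraMap' (K₀ := K₀) (K := K) _).symm)
      congr 1
      rw [map_mul, map_mul, hform f ⟨φ⟩]
      ring
    rw [hdiff] at this
    obtain ⟨g, hg⟩ := Ideal.mem_span_singleton'.1 this
    exact ⟨g, hg.symm⟩
  choose bOf hbOf using hclear
  have hone : ∃ φ, bOf φ = 1 := by
    have h1 : ∀ r : B, ∃ φ, bOf φ = r := by
      intro r
      obtain ⟨z, rfl⟩ := (Module.Invertible.linearEquiv B (Disc.Omega A B)).surjective r
      induction z using TensorProduct.induction_on with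
      | zero => exact ⟨0, hinjK (by
          rw [hbOf, map_zero, map_zero, show coef K₀ K (0 : Disc.Omega A B) = 0 from
            coef_unique _ _ (fun x => by simp), mul_zero])⟩
      | add s t hs ht =>
        obtain ⟨a, ha⟩ := hs
        obtain ⟨c, hc⟩ := ht
        exact ⟨a + c, hinjK (by rw [map_add, map_add, ← ha, ← hc, hbOf, hbOf, hbOf, coef_add, mul_add])⟩
      | tmul f φ =>
        obtain ⟨g, hg⟩ := hmem f
        refine ⟨g • φ, hinjK ?_⟩
        show algebraMap B K (bOf (g • φ)) = algebraMap B K (f φ)
        rw [hbOf, hform f φ, hg, coef_smul, map_mul]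
        ring
    exact h1 1
  obtain ⟨φ₁, hφ₁⟩ := hone
  have h1 : algebraMap B K d * coef K₀ K φ₁ = 1 := by rw [← hbOf, hφ₁, map_one]
  have hd0 : algebraMap B K d ≠ 0 := left_ne_zero_of_mul_eq_one h1
  refine ⟨fun h0 => hd0 (by rw [h0, map_zero]), fun b => ⟨(b • φ₁).toLinearMap, fun x => ?_⟩, fun φ => ?_⟩
  · rw [coef_spec (K := K), coef_smul, div_eq_mul_inv, ← eq_inv_of_mul_eq_one_right h1]
  · refine ⟨bOf ⟨φ⟩, fun x => ?_, fun b hb => hinjK ?_⟩
    · rw [hbOf, mul_div_cancel_left₀ _ hd0]
      exact coef_spec (⟨φ⟩ : Disc.Omega A B) x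
    · rw [hbOf, coef_unique (⟨φ⟩ : Disc.Omega A B) _ hb, mul_div_cancel₀ _ hd0]

end Pairing

end Groth.Agent.OmegaTop
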